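import Mathlib

/-!
# Packed permutations of `728` points (10-bit entries in one numeral)

Kernel-friendly arithmetic on permutations stored in numerals, and the bridge to `Equiv.Perm (Fin 728)`.
-/

set_option autoImplicit false

namespace Cfsg.Agent.Helper2.G23P

/-- table lookup: 10-bit entries -/
def tb (D v : ℕ) : ℕ := Nat.mod (Nat.shiftRight D (Nat.mul 10 v)) 1024

theorem tb_lt (D v : ℕ) : tb D v < 1024 := Nat.mod_lt _ (by norm_num)

/-- Horner packing of `f k, f (k+1), …, f (k+n-1)` -/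
def packAux (f : ℕ → ℕ) : ℕ → ℕ → ℕ
  | _, 0 => 0
  | k, n + 1 => Nat.add (f k) (Nat.mul 1024 (packAux f (k + 1) n))

/-- packing of a function on `0, …, 727` -/
def pack (f : ℕ → ℕ) : ℕ := packAux f 0 728

theorem tb_zero (D : ℕ) : tb D 0 = D % 1024 := by
  unfold tb
  show (D >>> (10 * 0)) % 1024 = _
  simp

theorem tb_succ (D i : ℕ) : tb D (i + 1) = tb (D / 1024) i := by
  unfold tb
  show (D >>> (10 * (i + 1))) % 1024 = ((D / 1024) >>> (10 * i)) % 1024
  rw [Nat.shiftRight_eq_div_pow, Nat.shiftRight_eq_div_pow, Nat.div_div_eq_div_mul]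
  congr 2
  rw [mul_add, pow_add]
  norm_num [mul_comm]

theorem tb_packAux (f : ℕ → ℕ) : ∀ (n k i : ℕ), i < n → (∀ j, k ≤ j → j < k + n → f j < 1024) →
    tb (packAux f k n) i = f (k + i)
  | 0, _, _, hi, _ => absurd hi (Nat.not_lt_zero _)
  | n + 1, k, 0, _, hf => by
    show tb (f k + 1024 * packAux f (k + 1) n) 0 = _
    rw [tb_zero, Nat.add_mul_mod_self_left, Nat.mod_eq_of_lt (hf k le_rfl (by omega))]
    rfl
  | n + 1, k, i + 1, hi, hf => by
    show tb (f k + 1024 * packAux f (k + 1) n) (i + 1) = _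
    rw [tb_succ]
    have h1 : (f k + 1024 * packAux f (k + 1) n) / 1024 = packAux f (k + 1) n := by
      have := hf k le_rfl (by omega)
      omega
    rw [h1, tb_packAux f n (k + 1) i (by omega) (fun j hj1 hj2 => hf j (by omega) (by omega))]
    congr 1
    omega

theorem tb_pack (f : ℕ → ℕ) (hf : ∀ j, j < 728 → f j < 1024) (i : ℕ) (hi : i < 728) :
    tb (pack f) i = f i := by
  unfold pack
  rw [tb_packAux f 728 0 i hi (fun j _ hj => hf j (by omega)), zero_add]

/-- the packed product `A ∘ B` -/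
def mulP (A B : ℕ) : ℕ := pack (fun v => tb A (tb B v))

/-- the packed identity -/
def idP : ℕ := pack (fun v => v)

theorem tb_mulP (A B i : ℕ) (hi : i < 728) : tb (mulP A B) i = tb A (tb B i) :=
  tb_pack _ (fun _ _ => tb_lt _ _) i hi

theorem tb_idP (i : ℕ) (hi : i < 728) : tb idP i = i :=
  tb_pack _ (fun j hj => by omega) i hi

/-! ### counting -/

theorem nbeq_iff (a b : ℕ) : Nat.beq a b = true ↔ a = b :=
  ⟨Nat.eq_of_beq_eq_true, fun h => h ▸ Nat.beq_refl a⟩

/-- number of `v < n` with `P v` -/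
def cnt (P : ℕ → Bool) : ℕ → ℕ
  | 0 => 0
  | n + 1 => Nat.add (cnt P n) (cond (P n) 1 0)

/-- all `v < n` satisfy `P` -/
def allB (P : ℕ → Bool) : ℕ → Bool
  | 0 => true
  | n + 1 => P n && allB P n

theorem allB_spec {P : ℕ → Bool} : ∀ {n : ℕ}, allB P n = true → ∀ v, v < n → P v = true
  | 0, _, v, hv => absurd hv (Nat.not_lt_zero _)
  | n + 1, h, v, hv => by
    simp only [allB, Bool.and_eq_true] at h
    rcases Nat.lt_succ_iff_lt_or_eq.mp hv with h1 | rfl
    · exact allB_spec h.2 v h1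
    · exact h.1

theorem allB_of {P : ℕ → Bool} : ∀ {n : ℕ}, (∀ v, v < n → P v = true) → allB P n = true
  | 0, _ => rfl
  | n + 1, h => by
    simp only [allB, Bool.and_eq_true]
    exact ⟨h n (Nat.lt_succ_self n), allB_of (fun v hv => h v (Nat.lt_succ_of_lt hv))⟩

theorem cnt_eq_sum (P : ℕ → Bool) (n : ℕ) :
    cnt P n = ∑ i ∈ Finset.range n, (if P i = true then 1 else 0) := by
  induction n with
  | zero => rfl
  | succ n ih =>
    rw [Finset.sum_range_succ, ← ih]
    show cnt P n + cond (P n) 1 0 = _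
    cases P n <;> rfl

theorem card_filter_eq_cnt {n : ℕ} (Q : Fin n → Prop) [DecidablePred Q] (P : ℕ → Bool)
    (h : ∀ v : Fin n, Q v ↔ P v.val = true) :
    (Finset.univ.filter Q).card = cnt P n := by
  rw [cnt_eq_sum, Finset.card_filter, ← Fin.sum_univ_eq_sum_range]
  apply Finset.sum_congr rfl
  intro v _
  simp only [h v]

/-- fixed points of a packed permutation -/
def fixc (D : ℕ) : ℕ := cnt (fun v => Nat.beq (tb D v) v) 728

/-- fixed points of a packed product -/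
def fixcMul (A B : ℕ) : ℕ := cnt (fun v => Nat.beq (tb A (tb B v)) v) 728

/-- fixed points of a packed product `A B B` -/
def fixcMul2 (A B : ℕ) : ℕ := cnt (fun v => Nat.beq (tb A (tb B (tb B v))) v) 728

/-- common fixed points -/
def fixc2 (A B : ℕ) : ℕ := cnt (fun v => Nat.beq (tb A v) v && Nat.beq (tb B v) v) 728

/-! ### permutations -/

/-- number of fixed points -/
def fx {n : ℕ} (σ : Equiv.Perm (Fin n)) : ℕ := (Finset.univ.filter (fun v => σ v = v)).card

/-- number of common fixed points -/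
def fx2 {n : ℕ} (σ τ : Equiv.Perm (Fin n)) : ℕ :=
  (Finset.univ.filter (fun v => σ v = v ∧ τ v = v)).card

/-- the numeral `D` stores the permutation `σ` -/
def Rep (σ : Equiv.Perm (Fin 728)) (D : ℕ) : Prop := ∀ v : Fin 728, (σ v).val = tb D v.val

theorem Rep.apply {σ : Equiv.Perm (Fin 728)} {D : ℕ} (h : Rep σ D) (v : ℕ) (hv : v < 728) :
    tb D v = (σ ⟨v, hv⟩).val := (h ⟨v, hv⟩).symm

theorem Rep.lt {σ : Equiv.Perm (Fin 728)} {D : ℕ} (h : Rep σ D) (v : ℕ) (hv : v < 728) :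
    tb D v < 728 := by
  rw [h.apply v hv]
  exact (σ ⟨v, hv⟩).isLt

theorem rep_one : Rep 1 idP := fun v => (tb_idP v.val v.isLt).symm

theorem rep_mul {σ τ : Equiv.Perm (Fin 728)} {A B : ℕ} (hσ : Rep σ A) (hτ : Rep τ B) :
    Rep (σ * τ) (mulP A B) := by
  intro v
  rw [tb_mulP _ _ _ v.isLt, Equiv.Perm.mul_apply, hσ (τ v), hτ v]

theorem Rep.ext {σ τ : Equiv.Perm (Fin 728)} {D : ℕ} (hσ : Rep σ D) (hτ : Rep τ D) : σ = τ := by
  apply Equiv.ext
  intro v
  apply Fin.ext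
  rw [hσ v, hτ v]

theorem Rep.eq_of_tb {σ τ : Equiv.Perm (Fin 728)} {A B : ℕ} (hσ : Rep σ A) (hτ : Rep τ B)
    (h : ∀ v, v < 728 → tb A v = tb B v) : σ = τ := by
  apply Equiv.ext
  intro v
  apply Fin.ext
  rw [hσ v, hτ v, h v.val v.isLt]

theorem Rep.fx_eq {σ : Equiv.Perm (Fin 728)} {D : ℕ} (h : Rep σ D) : fx σ = fixc D := by
  unfold fx fixc
  apply card_filter_eq_cnt
  intro v
  rw [nbeq_iff, ← h v]
  exact Fin.ext_iff

theorem Rep.fx_mul {σ τ : Equiv.Perm (Fin 728)} {A B : ℕ} (hσ : Rep σ A) (hτ : Rep τ B) :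
    fx (σ * τ) = fixcMul A B := by
  unfold fx fixcMul
  apply card_filter_eq_cnt
  intro v
  rw [nbeq_iff, ← hτ v, ← hσ (τ v)]
  exact Fin.ext_iff

theorem Rep.fx_mul2 {σ τ : Equiv.Perm (Fin 728)} {A B : ℕ} (hσ : Rep σ A) (hτ : Rep τ B) :
    fx (σ * τ * τ) = fixcMul2 A B := by
  unfold fx fixcMul2
  apply card_filter_eq_cnt
  intro v
  rw [nbeq_iff, ← hτ v, ← hτ (τ v), ← hσ (τ (τ v))]
  exact Fin.ext_iff

theorem Rep.fx2_eq {σ τ : Equiv.Perm (Fin 728)} {A B : ℕ} (hσ : Rep σ A) (hτ : Rep τ B) :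
    fx2 σ τ = fixc2 A B := by
  unfold fx2 fixc2
  apply card_filter_eq_cnt
  intro v
  rw [Bool.and_eq_true, nbeq_iff, nbeq_iff, ← hσ v, ← hτ v]
  exact and_congr Fin.ext_iff Fin.ext_iff

end Cfsg.Agent.Helper2.G23P
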