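import Mathlib
import Cfsg.Agent.Helper2.SylowConj
import Cfsg.Agent.Helper2.G23P.Pack

/-!
# Fixed points of commuting permutations, and Sylow counting for a cyclic Sylow subgroup
-/

set_option autoImplicit false

namespace Cfsg.Agent.Helper2.G23P

section perm

variable {α : Type*} [DecidableEq α]

/-- an invariant finite set and its fixed points have the same size modulo `p`, for a permutation
of `p`-power order -/
theorem card_modEq_filter_fixed {p k : ℕ} [hp : Fact p.Prime] (π : Equiv.Perm α)
    (hπ : π ^ p ^ k = 1) (S : Finset α) (hS : ∀ x ∈ S, π x ∈ S) :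
    S.card ≡ (S.filter (fun x => π x = x)).card [MOD p] := by
  classical
  let f : Function.End S := fun y => ⟨π y.1, hS y.1 y.2⟩
  have hpow : ∀ n : ℕ, ∀ y : S, ((f ^ n) y).1 = (π ^ n) y.1 := by
    intro n
    induction n with
    | zero => intro y; rfl
    | succ n ih =>
      intro y
      rw [pow_succ', pow_succ']
      show π ((f ^ n) y).1 = π ((π ^ n) y.1)
      rw [ih]
  have hf : f ^ p ^ k = 1 := by
    funext y
    apply Subtype.ext
    rw [hpow, hπ]
    rfl
  have hmod := Equiv.Perm.card_fixedPoints_modEq (p := p) (n := k) hf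
  have h1 : Fintype.card S = S.card := Fintype.card_coe S
  have h2 : Fintype.card ↥(Function.fixedPoints f) = (S.filter (fun x => π x = x)).card := by
    rw [← Fintype.card_coe]
    apply Fintype.card_congr
    exact
      { toFun := fun y => ⟨y.1.1, Finset.mem_filter.2 ⟨y.1.2, congrArg Subtype.val y.2⟩⟩
        invFun := fun z => ⟨⟨z.1, (Finset.mem_filter.1 z.2).1⟩,
          Subtype.ext (Finset.mem_filter.1 z.2).2⟩
        left_inv := fun y => rfl
        right_inv := fun z => rfl }
  rw [h1, h2] at hmod
  exact hmod

/-- a set invariant under a fixed-point-free permutation of prime order `p` has size divisible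
by `p` -/
theorem dvd_card_of_invariant_fpf {p : ℕ} [Fact p.Prime] (π : Equiv.Perm α) (hπ : π ^ p = 1)
    (hf : ∀ v, π v ≠ v) (S : Finset α) (hS : ∀ x ∈ S, π x ∈ S) : p ∣ S.card := by
  have h := card_modEq_filter_fixed (p := p) (k := 1) π (by rwa [pow_one]) S hS
  have h0 : S.filter (fun x => π x = x) = ∅ := Finset.filter_eq_empty_iff.2 (fun x _ => hf x)
  rw [h0, Finset.card_empty] at h
  exact (Nat.modEq_zero_iff_dvd).1 h

end perm

section action

variable {G : Type*} [Group G] {n : ℕ} (ρ : G →* Equiv.Perm (Fin n))

/-- conjugate elements have the same number of fixed points -/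
theorem fx_conj (h g : G) : fx (ρ (h * g * h⁻¹)) = fx (ρ g) := by
  unfold fx
  apply Finset.card_equiv (ρ h⁻¹)
  intro v
  simp only [Finset.mem_filter, Finset.mem_univ, true_and]
  rw [map_mul, map_mul, Equiv.Perm.mul_apply, Equiv.Perm.mul_apply, map_inv]
  exact (Equiv.eq_symm_apply (ρ h)).symm

/-- the common fixed points are at most the fixed points -/
theorem fx2_le (σ τ : Equiv.Perm (Fin n)) : fx2 σ τ ≤ fx σ := by
  unfold fx fx2
  apply Finset.card_le_card
  intro v hv
  simp only [Finset.mem_filter, Finset.mem_univ, true_and] at hv ⊢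
  exact hv.1

/-- if the common fixed points are as many as the fixed points of the first, then the fixed points
of the first are fixed by the second -/
theorem fixed_of_fx2_eq {σ τ : Equiv.Perm (Fin n)} (h : fx2 σ τ = fx σ) (v : Fin n)
    (hv : σ v = v) : τ v = v := by
  unfold fx fx2 at h
  have hsub : Finset.univ.filter (fun v => σ v = v ∧ τ v = v) ⊆
      Finset.univ.filter (fun v => σ v = v) := by
    intro w hw
    simp only [Finset.mem_filter, Finset.mem_univ, true_and] at hw ⊢
    exact hw.1
  have heq := Finset.eq_of_subset_of_card_le hsub (le_of_eq h.symm)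
  have : v ∈ Finset.univ.filter (fun v => σ v = v) := by simp [hv]
  rw [← heq] at this
  simp only [Finset.mem_filter, Finset.mem_univ, true_and] at this
  exact this.2

variable {ρ}

/-- an element commuting with a fixed-point-free element of prime order `p` has a number of
fixed points divisible by `p` -/
theorem dvd_fx_of_commute {p : ℕ} [Fact p.Prime] {τ a : G} (hτ : τ ^ p = 1)
    (hf : ∀ v, ρ τ v ≠ v) (hc : Commute a τ) : p ∣ fx (ρ a) := by
  unfold fx
  apply dvd_card_of_invariant_fpf (ρ τ) (by rw [← map_pow, hτ, map_one]) hf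
  intro v hv
  simp only [Finset.mem_filter, Finset.mem_univ, true_and] at hv ⊢
  rw [← Equiv.Perm.mul_apply, ← map_mul, hc.eq, map_mul, Equiv.Perm.mul_apply, hv]

/-- two elements commuting with a fixed-point-free element of prime order `p` have a number of
common fixed points divisible by `p` -/
theorem dvd_fx2_of_commute {p : ℕ} [Fact p.Prime] {τ a b : G} (hτ : τ ^ p = 1)
    (hf : ∀ v, ρ τ v ≠ v) (hca : Commute a τ) (hcb : Commute b τ) : p ∣ fx2 (ρ a) (ρ b) := by
  unfold fx2
  apply dvd_card_of_invariant_fpf (ρ τ) (by rw [← map_pow, hτ, map_one]) hf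
  intro v hv
  simp only [Finset.mem_filter, Finset.mem_univ, true_and] at hv ⊢
  constructor
  · rw [← Equiv.Perm.mul_apply, ← map_mul, hca.eq, map_mul, Equiv.Perm.mul_apply, hv.1]
  · rw [← Equiv.Perm.mul_apply, ← map_mul, hcb.eq, map_mul, Equiv.Perm.mul_apply, hv.2]

/-- for commuting `a`, `b` with `b` of `p`-power order, the fixed points of `a` and the common
fixed points are congruent modulo `p` -/
theorem fx_modEq_fx2 {p k : ℕ} [Fact p.Prime] {a b : G} (hb : b ^ p ^ k = 1)
    (hc : Commute a b) : fx (ρ a) ≡ fx2 (ρ a) (ρ b) [MOD p] := by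
  unfold fx fx2
  have h := card_modEq_filter_fixed (p := p) (k := k) (ρ b) (by rw [← map_pow, hb, map_one])
    (Finset.univ.filter (fun v => ρ a v = v)) (by
      intro v hv
      simp only [Finset.mem_filter, Finset.mem_univ, true_and] at hv ⊢
      rw [← Equiv.Perm.mul_apply, ← map_mul, hc.eq, map_mul, Equiv.Perm.mul_apply, hv])
  rw [Finset.filter_filter] at h
  exact h

end action

end Cfsg.Agent.Helper2.G23P
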