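import Mathlib
import Cfsg.Agent.Helper2.SylowConj
import Cfsg.Agent.Helper2.G23P.AbsA

/-!
# Sylow counting for a Sylow subgroup of prime order
-/

set_option autoImplicit false

namespace Cfsg.Agent.Helper2.G23P

variable {G : Type*} [Group G] [Finite G]

/-- a `p`-subgroup can be conjugated into a subgroup of order the full power of `p` -/
theorem exists_conj_mem_of_card {p : ℕ} [Fact p.Prime] (S : Subgroup G) {k : ℕ}
    (hS : Nat.card S = p ^ k) (hk : ¬ p ^ (k + 1) ∣ Nat.card G) (K : Subgroup G)
    (hK : IsPGroup p K) : ∃ h : G, ∀ x ∈ K, h * x * h⁻¹ ∈ S := by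
  have hpS : IsPGroup p S := IsPGroup.of_card hS
  have hidx : ¬ p ∣ S.index := by
    intro hd
    apply hk
    rw [← S.card_mul_index, hS, pow_succ]
    exact mul_dvd_mul_left _ hd
  exact exists_conj_le_sylow (hpS.toSylow hidx) K hK

/-- an element of `p`-power order can be conjugated into a subgroup of order the full power of
`p` -/
theorem exists_conj_mem_of_orderOf {p : ℕ} [Fact p.Prime] (S : Subgroup G) {k : ℕ}
    (hS : Nat.card S = p ^ k) (hk : ¬ p ^ (k + 1) ∣ Nat.card G) (g : G) {j : ℕ}
    (hg : orderOf g = p ^ j) : ∃ h : G, h * g * h⁻¹ ∈ S := by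
  obtain ⟨h, hh⟩ := exists_conj_mem_of_card S hS hk (Subgroup.zpowers g)
    (IsPGroup.of_card (n := j) (by rw [Nat.card_zpowers, hg]))
  exact ⟨h, hh g (Subgroup.mem_zpowers g)⟩

omit [Finite G] in
/-- the order of a conjugate -/
theorem orderOf_conj' (h g : G) : orderOf (h * g * h⁻¹) = orderOf g := by
  have := orderOf_injective (MulAut.conj h).toMonoidHom (MulAut.conj h).injective g
  simpa using this

omit [Finite G] in
/-- the centralizer of the powers of `x` is the centralizer of `x` -/
theorem centralizer_zpowers (x : G) :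
    Subgroup.centralizer ((Subgroup.zpowers x : Subgroup G) : Set G) =
      Subgroup.centralizer {x} := by
  ext z
  rw [Subgroup.mem_centralizer_iff, Subgroup.mem_centralizer_iff]
  constructor
  · intro h w hw
    rw [Set.mem_singleton_iff] at hw
    subst hw
    exact h w (Subgroup.mem_zpowers w)
  · intro h w hw
    obtain ⟨i, rfl⟩ := Subgroup.mem_zpowers_iff.1 hw
    have hc : Commute x z := h x rfl
    exact (hc.zpow_left i).eq

/-- a nontrivial power of an element of prime order generates the same subgroup -/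
theorem zpowers_eq_of_mem {p : ℕ} [hp : Fact p.Prime] {x z : G} (hx : orderOf x = p)
    (hz : z ∈ Subgroup.zpowers x) (hz1 : z ≠ 1) : Subgroup.zpowers z = Subgroup.zpowers x := by
  have hle : Subgroup.zpowers z ≤ Subgroup.zpowers x := Subgroup.zpowers_le.2 hz
  apply Subgroup.eq_of_le_of_card_ge hle
  rw [Nat.card_zpowers, Nat.card_zpowers, hx]
  have hd : orderOf z ∣ p := by
    have := Subgroup.card_dvd_of_le hle
    rwa [Nat.card_zpowers, Nat.card_zpowers, hx] at this
  rcases (Nat.dvd_prime hp.out).1 hd with h1 | h1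
  · exact absurd (orderOf_eq_one_iff.1 h1) hz1
  · exact le_of_eq h1.symm

/-- Sylow counting for a Sylow subgroup of prime order `p`: `|G| = n k |C(x)|` with
`n ≡ 1 mod p`, `k ∣ p - 1`, and `e ^ k ≡ 1 mod p` for every `e` such that `x` is conjugate
to `x ^ e` -/
theorem sylow_prime_count {p : ℕ} [hp : Fact p.Prime] (x : G) (hx : orderOf x = p)
    (hG : ¬ p ^ 2 ∣ Nat.card G) :
    ∃ n k : ℕ, Nat.card G = n * (k * Nat.card (Subgroup.centralizer ({x} : Set G))) ∧
      n ≡ 1 [MOD p] ∧ k ∣ p - 1 ∧
      ∀ (m : G) (e : ℕ), m * x * m⁻¹ = x ^ e → e ^ k ≡ 1 [MOD p] := by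
  classical
  set P : Subgroup G := Subgroup.zpowers x with hPdef
  have hPcard : Nat.card P = p := by rw [Nat.card_zpowers, hx]
  have hpP : IsPGroup p P := IsPGroup.of_card (n := 1) (by rw [hPcard, pow_one])
  have hidx : ¬ p ∣ P.index := by
    intro hd
    apply hG
    rw [← P.card_mul_index, hPcard, pow_two]
    exact mul_dvd_mul_left _ hd
  let PS : Sylow p G := hpP.toSylow hidx
  have hPS : (PS : Subgroup G) = P := rfl
  set N : Subgroup G := Subgroup.normalizer (P : Set G) with hNdef
  let φ : N →* MulAut P := P.normalizerMonoidHom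
  have hker : φ.ker = (Subgroup.centralizer (P : Set G)).subgroupOf N :=
    Subgroup.normalizerMonoidHom_ker (H := P)
  have hn1 : Nat.card (Sylow p G) ≡ 1 [MOD p] := card_sylow_modEq_one p G
  have hn2 : Nat.card (Sylow p G) = N.index := by
    rw [Sylow.card_eq_index_normalizer PS]
    rfl
  have hcyc : IsCyclic P := isCyclic_of_prime_card hPcard
  have hkdvd : Nat.card φ.range ∣ p - 1 := by
    have h1 := Subgroup.card_subgroup_dvd_card φ.range
    rwa [hcyc.card_mulAut, hPcard, Nat.totient_prime hp.out] at h1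
  have hkercard : Nat.card φ.ker = Nat.card (Subgroup.centralizer ({x} : Set G)) := by
    rw [hker, ← centralizer_zpowers x]
    exact Nat.card_congr
      (Subgroup.subgroupOfEquivOfLe (Subgroup.centralizer_le_normalizer (P : Set G))).toEquiv
  have hNcard : Nat.card N = Nat.card φ.range * Nat.card (Subgroup.centralizer ({x} : Set G)) := by
    rw [← hkercard, ← Subgroup.index_ker, mul_comm, Subgroup.card_mul_index]
  refine ⟨N.index, Nat.card φ.range, ?_, ?_, hkdvd, ?_⟩
  · rw [← hNcard, mul_comm, Subgroup.card_mul_index]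
  · rw [← hn2]; exact hn1
  · intro m e hm
    -- `m` normalizes `P`
    have hmN : m ∈ N := by
      apply Subgroup.mem_normalizer_fintype
      intro w hw
      obtain ⟨i, rfl⟩ := Subgroup.mem_zpowers_iff.1 hw
      have : m * x ^ i * m⁻¹ = (m * x * m⁻¹) ^ i := by
        rw [conj_zpow]
      rw [this, hm]
      exact Subgroup.zpow_mem _ (Subgroup.pow_mem _ (Subgroup.mem_zpowers x) e) i
    -- the `k`-th power of `m` centralizes `x`
    have hpow1 : (φ ⟨m, hmN⟩) ^ Nat.card φ.range = 1 := by
      have h1 : (⟨φ ⟨m, hmN⟩, ⟨_, rfl⟩⟩ : φ.range) ^ Nat.card φ.range = 1 := pow_card_eq_one'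
      have := congrArg Subtype.val h1
      simpa using this
    have hmk : (⟨m, hmN⟩ : N) ^ Nat.card φ.range ∈ φ.ker := by
      rw [MonoidHom.mem_ker, map_pow, hpow1]
    rw [hker, Subgroup.mem_subgroupOf] at hmk
    have hmk' : m ^ Nat.card φ.range ∈ Subgroup.centralizer ({x} : Set G) := by
      rw [← centralizer_zpowers x]
      simpa using hmk
    have hcomm : x * m ^ Nat.card φ.range = m ^ Nat.card φ.range * x :=
      Subgroup.mem_centralizer_iff.1 hmk' x rfl
    -- iterate the conjugation
    have hiter : ∀ j : ℕ, m ^ j * x * (m ^ j)⁻¹ = x ^ (e ^ j) := by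
      intro j
      induction j with
      | zero => simp
      | succ j ih =>
        have : m ^ (j + 1) * x * (m ^ (j + 1))⁻¹ = m * (m ^ j * x * (m ^ j)⁻¹) * m⁻¹ := by
          rw [pow_succ']
          group
        rw [this, ih, ← conj_pow, hm, ← pow_mul, pow_succ, mul_comm]
    have h2 := hiter (Nat.card φ.range)
    rw [← hcomm, mul_inv_cancel_right] at h2
    have h3 : x ^ 1 = x ^ (e ^ Nat.card φ.range) := by rw [pow_one]; exact h2
    have h4 := (pow_eq_pow_iff_modEq).1 h3
    rw [hx] at h4
    exact h4.symm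

end Cfsg.Agent.Helper2.G23P
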