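import Mathlib
import Cfsg.Agent.Helper2.G23P.AbsB

/-!
# The orders of the elements of a group with the fixed-point data of `G₂(3)` on 728 points

An abstract statement: a group of order `4245696` acting on `728` points, with the fixed-point data
of its Sylow 2- and 3-subgroups and of two elements of orders 7 and 13, has no elements of order
`14, 21, 26, 39, 91`.
-/

set_option autoImplicit false

namespace Cfsg.Agent.Helper2.G23P

variable {G : Type*} [Group G] [Finite G]

section general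

variable {n : ℕ} (ρ : G →* Equiv.Perm (Fin n))

/-- if one element of prime order `p` is fixed-point-free, and `p ^ 2 ∤ |G|`, then so are all
elements of order `p` -/
theorem fpf_of_orderOf {p : ℕ} [hp : Fact p.Prime] (hG : ¬ p ^ 2 ∣ Nat.card G) {x : G}
    (hx : orderOf x = p) (hf : ∀ v, ρ x v ≠ v) (g : G) (hg : orderOf g = p) :
    ∀ v, ρ g v ≠ v := by
  intro v hv
  obtain ⟨h, hh⟩ := exists_conj_mem_of_orderOf (p := p) (Subgroup.zpowers x) (k := 1)
    (by rw [Nat.card_zpowers, hx, pow_one]) hG g (j := 1) (by rw [hg, pow_one])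
  have hz1 : h * g * h⁻¹ ≠ 1 := by
    intro h1
    have : orderOf (h * g * h⁻¹) = 1 := by rw [h1, orderOf_one]
    rw [orderOf_conj', hg] at this
    exact hp.out.one_lt.ne' this
  have hzp := zpowers_eq_of_mem hx hh hz1
  have hxz : x ∈ Subgroup.zpowers (h * g * h⁻¹) := by
    rw [hzp]; exact Subgroup.mem_zpowers x
  obtain ⟨i, hi⟩ := Subgroup.mem_zpowers_iff.1 hxz
  have hfix : ρ (h * g * h⁻¹) (ρ h v) = ρ h v := by
    rw [← Equiv.Perm.mul_apply, ← map_mul, inv_mul_cancel_right, map_mul, Equiv.Perm.mul_apply,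
      hv]
  have := Equiv.Perm.zpow_apply_eq_self_of_apply_eq_self hfix i
  rw [← map_zpow, hi] at this
  exact hf _ this

omit [Finite G] in
/-- a fixed-point-free element is not the identity -/
theorem ne_one_of_fpf [NeZero n] {x : G} (hf : ∀ v, ρ x v ≠ v) : x ≠ 1 := by
  intro h
  apply hf 0
  rw [h, map_one, Equiv.Perm.one_apply]

/-- an element having a power of order `p` can be conjugated into the centralizer of a given
element of order `p`, if `p ^ 2 ∤ |G|` -/
theorem exists_conj_mem_centralizer {p : ℕ} [hp : Fact p.Prime] (hG : ¬ p ^ 2 ∣ Nat.card G)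
    {x : G} (hx : orderOf x = p) (u : G) (e : ℕ) (hu : orderOf (u ^ e) = p) :
    ∃ h : G, h * u * h⁻¹ ∈ Subgroup.centralizer ({x} : Set G) := by
  obtain ⟨h, hh⟩ := exists_conj_mem_of_orderOf (p := p) (Subgroup.zpowers x) (k := 1)
    (by rw [Nat.card_zpowers, hx, pow_one]) hG (u ^ e) (j := 1) (by rw [hu, pow_one])
  refine ⟨h, ?_⟩
  have hz1 : h * u ^ e * h⁻¹ ≠ 1 := by
    intro h1
    have : orderOf (h * u ^ e * h⁻¹) = 1 := by rw [h1, orderOf_one]
    rw [orderOf_conj', hu] at this
    exact hp.out.one_lt.ne' this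
  have hzp := zpowers_eq_of_mem hx hh hz1
  rw [← centralizer_zpowers x, ← hzp, centralizer_zpowers, Subgroup.mem_centralizer_iff]
  intro w hw
  rw [Set.mem_singleton_iff] at hw
  subst hw
  rw [← conj_pow]
  exact ((Commute.refl (h * u * h⁻¹)).pow_left e).eq

/-- the order of an element having a power of order `p` divides the order of the centralizer of
a given element of order `p` -/
theorem orderOf_dvd_card_centralizer {p : ℕ} [hp : Fact p.Prime] (hG : ¬ p ^ 2 ∣ Nat.card G)
    {x : G} (hx : orderOf x = p) (u : G) (e : ℕ) (hu : orderOf (u ^ e) = p) :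
    orderOf u ∣ Nat.card (Subgroup.centralizer ({x} : Set G)) := by
  obtain ⟨h, hh⟩ := exists_conj_mem_centralizer hG hx u e hu
  rw [← orderOf_conj' h u]
  exact Subgroup.orderOf_dvd_natCard _ hh

/-- no prime `q` divides the order of the centralizer of a fixed-point-free element of prime
order `p`, if the elements of order `q` of a Sylow `q`-subgroup have numbers of fixed points
prime to `p` -/
theorem not_dvd_card_centralizer {p q k : ℕ} [Fact p.Prime] [Fact q.Prime] {τ : G}
    (hτ : τ ^ p = 1) (hf : ∀ v, ρ τ v ≠ v) (S : Subgroup G) (hS : Nat.card S = q ^ k)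
    (hk : ¬ q ^ (k + 1) ∣ Nat.card G) (hgood : ∀ a ∈ S, orderOf a = q → ¬ p ∣ fx (ρ a)) :
    ¬ q ∣ Nat.card (Subgroup.centralizer ({τ} : Set G)) := by
  intro hd
  obtain ⟨a, ha⟩ := exists_prime_orderOf_dvd_card' q hd
  have ha' : orderOf (a : G) = q := by rw [Subgroup.orderOf_coe, ha]
  have hc : Commute (a : G) τ := (Subgroup.mem_centralizer_iff.1 a.2 τ rfl).symm
  have h1 : p ∣ fx (ρ (a : G)) := dvd_fx_of_commute hτ hf hc
  obtain ⟨h, hh⟩ := exists_conj_mem_of_orderOf (p := q) S hS hk (a : G) (j := 1)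
    (by rw [ha', pow_one])
  apply hgood _ hh (by rw [orderOf_conj', ha'])
  rw [fx_conj]
  exact h1

end general

/-- The fixed-point data of `G₂(3)` acting on `728` points. -/
structure Hyp (ρ : G →* Equiv.Perm (Fin 728)) where
  /-- the order -/
  card : Nat.card G = 4245696
  /-- a Sylow 2-subgroup -/
  S2 : Subgroup G
  /-- its order -/
  card2 : Nat.card S2 = 64
  /-- its involutions fix 8 points -/
  inv2 : ∀ a ∈ S2, a ≠ 1 → a * a = 1 → fx (ρ a) = 8
  /-- a Sylow 3-subgroup -/
  S3 : Subgroup G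
  /-- its order -/
  card3 : Nat.card S3 = 729
  /-- the numbers of fixed points of its elements -/
  fix3 : ∀ a ∈ S3, a ≠ 1 → fx (ρ a) = 2 ∨ fx (ρ a) = 8 ∨ fx (ρ a) = 26 ∨ fx (ρ a) = 80
  /-- the elements with 26 fixed points have order 3 -/
  cube3 : ∀ a ∈ S3, fx (ρ a) = 26 → a ^ 3 = 1
  /-- the elements with 26 fixed points and the same fixed points -/
  pair3 : ∀ a ∈ S3, ∀ b ∈ S3, fx (ρ a) = 26 → fx (ρ b) = 26 →
    (∀ v, ρ a v = v ↔ ρ b v = v) →
      b = a ∨ b = a * a ∨ fx (ρ (a * b)) ≠ 26 ∨ fx (ρ (a * b * b)) ≠ 26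
  /-- an element of order 7 -/
  x : G
  /-- an element conjugating `x` to its cube -/
  m : G
  /-- the order of `x` -/
  ordx : orderOf x = 7
  /-- `x` is fixed-point-free -/
  fpfx : ∀ v, ρ x v ≠ v
  /-- the conjugation -/
  conjx : m * x * m⁻¹ = x ^ 3
  /-- an element of order 13 -/
  y : G
  /-- an element conjugating `y` to its cube -/
  z : G
  /-- the order of `y` -/
  ordy : orderOf y = 13
  /-- `y` is fixed-point-free -/
  fpfy : ∀ v, ρ y v ≠ v
  /-- the conjugation -/
  conjy : z * y * z⁻¹ = y ^ 3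

namespace Hyp

variable {ρ : G →* Equiv.Perm (Fin 728)} (H : Hyp ρ)

include H

omit [Finite G] in
theorem not_dvd2 : ¬ 2 ^ (6 + 1) ∣ Nat.card G := by rw [H.card]; decide

omit [Finite G] in
theorem not_dvd3 : ¬ 3 ^ (6 + 1) ∣ Nat.card G := by rw [H.card]; decide

omit [Finite G] in
theorem not_dvd7 : ¬ 7 ^ 2 ∣ Nat.card G := by rw [H.card]; decide

omit [Finite G] in
theorem not_dvd13 : ¬ 13 ^ 2 ∣ Nat.card G := by rw [H.card]; decide

omit [Finite G] in
/-- the involutions of the Sylow 2-subgroup -/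
theorem good2 (a : G) (ha : a ∈ H.S2) (ho : orderOf a = 2) : fx (ρ a) = 8 := by
  apply H.inv2 a ha
  · intro h1
    rw [h1, orderOf_one] at ho
    omega
  · rw [← pow_two, ← ho, pow_orderOf_eq_one]

/-- the centralizer of `x` has order 7 or 91 -/
theorem card_centralizer_x_cases :
    Nat.card (Subgroup.centralizer ({H.x} : Set G)) = 7 ∨
      Nat.card (Subgroup.centralizer ({H.x} : Set G)) = 91 := by
  have : Fact (Nat.Prime 7) := ⟨by norm_num⟩
  have : Fact (Nat.Prime 2) := ⟨by norm_num⟩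
  have : Fact (Nat.Prime 3) := ⟨by norm_num⟩
  have hx7 : H.x ^ 7 = 1 := by rw [← H.ordx, pow_orderOf_eq_one]
  have h2 : ¬ 2 ∣ Nat.card (Subgroup.centralizer ({H.x} : Set G)) :=
    not_dvd_card_centralizer ρ hx7 H.fpfx H.S2 (k := 6) (by rw [H.card2]; norm_num) H.not_dvd2
      (fun a ha ho => by rw [H.good2 a ha ho]; decide)
  have h3 : ¬ 3 ∣ Nat.card (Subgroup.centralizer ({H.x} : Set G)) :=
    not_dvd_card_centralizer ρ hx7 H.fpfx H.S3 (k := 6) (by rw [H.card3]; norm_num) H.not_dvd3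
      (fun a ha ho => by
        have h1 : a ≠ 1 := by
          intro h1
          rw [h1, orderOf_one] at ho
          omega
        rcases H.fix3 a ha h1 with h | h | h | h <;> rw [h] <;> decide)
  have h7 : 7 ∣ Nat.card (Subgroup.centralizer ({H.x} : Set G)) := by
    rw [← H.ordx]
    exact Subgroup.orderOf_dvd_natCard _ (Subgroup.mem_centralizer_iff.2 (fun w hw => by
      rw [Set.mem_singleton_iff] at hw; rw [hw]))
  have hd : Nat.card (Subgroup.centralizer ({H.x} : Set G)) ∣ 4245696 := by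
    rw [← H.card]; exact Subgroup.card_subgroup_dvd_card _
  generalize Nat.card (Subgroup.centralizer ({H.x} : Set G)) = c at h2 h3 h7 hd ⊢
  have hc6 : Nat.Coprime c (6 ^ 6) := by
    apply Nat.Coprime.pow_right
    have e6 : (6 : ℕ) = 2 * 3 := by norm_num
    rw [e6]
    apply Nat.Coprime.mul_right
    · exact ((Nat.Prime.coprime_iff_not_dvd Nat.prime_two).2 h2).symm
    · exact ((Nat.Prime.coprime_iff_not_dvd Nat.prime_three).2 h3).symm
  have h91 : c ∣ 91 := by
    have e : (4245696 : ℕ) = 6 ^ 6 * 91 := by norm_num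
    rw [e] at hd
    exact hc6.dvd_of_dvd_mul_left hd
  have hmem : c ∈ Nat.divisors 91 := Nat.mem_divisors.2 ⟨h91, by norm_num⟩
  have hdiv : Nat.divisors 91 = {1, 7, 13, 91} := by decide
  rw [hdiv] at hmem
  simp only [Finset.mem_insert, Finset.mem_singleton] at hmem
  rcases hmem with rfl | rfl | rfl | rfl
  · omega
  · left; rfl
  · omega
  · right; rfl

/-- the centralizer of `x` has order 7 -/
theorem card_centralizer_x : Nat.card (Subgroup.centralizer ({H.x} : Set G)) = 7 := by
  have : Fact (Nat.Prime 7) := ⟨by norm_num⟩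
  obtain ⟨n, k, h1, h2, h3, h4⟩ := sylow_prime_count H.x H.ordx H.not_dvd7
  have h5 := h4 H.m 3 H.conjx
  have hk6 : k = 6 := by
    have hk : k ∣ 6 := h3
    have hkle : k ≤ 6 := Nat.le_of_dvd (by norm_num) hk
    interval_cases k <;> first | rfl | (exfalso; revert h5; decide) | (exfalso; revert hk; decide)
  subst hk6
  rw [H.card] at h1
  rcases H.card_centralizer_x_cases with hc | hc
  · exact hc
  · exfalso
    rw [hc] at h1
    unfold Nat.ModEq at h2
    omega

/-- the centralizer of `y` has order prime to 9 -/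
theorem not_nine_dvd : ¬ 9 ∣ Nat.card (Subgroup.centralizer ({H.y} : Set G)) := by
  have : Fact (Nat.Prime 3) := ⟨by norm_num⟩
  have : Fact (Nat.Prime 13) := ⟨by norm_num⟩
  intro hd
  obtain ⟨Q, hQcard, hQC⟩ : ∃ Q : Subgroup G, Nat.card Q = 3 ^ 2 ∧
      Q ≤ Subgroup.centralizer ({H.y} : Set G) := by
    obtain ⟨Q', hQ'⟩ := Sylow.exists_subgroup_card_pow_prime 3 (n := 2)
      (G := Subgroup.centralizer ({H.y} : Set G)) (by norm_num; exact hd)
    refine ⟨Q'.map (Subgroup.centralizer ({H.y} : Set G)).subtype, ?_, ?_⟩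
    · rw [← hQ']
      exact (Nat.card_congr (Q'.equivMapOfInjective _
        (Subgroup.centralizer ({H.y} : Set G)).subtype_injective).toEquiv).symm
    · rintro _ ⟨w, _, rfl⟩
      exact w.2
  have hQcomm : ∀ a ∈ Q, ∀ b ∈ Q, a * b = b * a := by
    intro a ha b hb
    have hcm := IsPGroup.isMulCommutative_of_card_eq_prime_sq (p := 3) hQcard
    exact congrArg Subtype.val (hcm.is_comm.comm ⟨a, ha⟩ ⟨b, hb⟩)
  obtain ⟨h, hh⟩ := exists_conj_mem_of_card (p := 3) H.S3 (k := 6) (by rw [H.card3]; norm_num)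
    H.not_dvd3 Q (IsPGroup.of_card hQcard)
  -- the conjugate fixed-point-free element
  have hy13 : (h * H.y * h⁻¹) ^ 13 = 1 := by
    rw [conj_pow, ← H.ordy, pow_orderOf_eq_one]; group
  have hyf : ∀ v, ρ (h * H.y * h⁻¹) v ≠ v :=
    fpf_of_orderOf ρ H.not_dvd13 H.ordy H.fpfy _ (by rw [orderOf_conj', H.ordy])
  have hcy : ∀ a ∈ Q, Commute (h * a * h⁻¹) (h * H.y * h⁻¹) := by
    intro a ha
    have h1 : Commute a H.y := (Subgroup.mem_centralizer_iff.1 (hQC ha) H.y rfl).symm
    show h * a * h⁻¹ * (h * H.y * h⁻¹) = h * H.y * h⁻¹ * (h * a * h⁻¹)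
    have e1 : h * a * h⁻¹ * (h * H.y * h⁻¹) = h * (a * H.y) * h⁻¹ := by group
    have e2 : h * H.y * h⁻¹ * (h * a * h⁻¹) = h * (H.y * a) * h⁻¹ := by group
    rw [e1, e2, h1.eq]
  have hfx : ∀ a ∈ Q, a ≠ 1 → fx (ρ (h * a * h⁻¹)) = 26 := by
    intro a ha ha1
    have h1 : h * a * h⁻¹ ≠ 1 := by
      intro h2
      apply ha1
      have : a = h⁻¹ * (h * a * h⁻¹) * h := by group
      rw [this, h2]; group
    have h2 : 13 ∣ fx (ρ (h * a * h⁻¹)) := dvd_fx_of_commute hy13 hyf (hcy a ha)
    rcases H.fix3 _ (hh a ha) h1 with h3 | h3 | h3 | h3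
    · rw [h3] at h2; exact absurd h2 (by decide)
    · rw [h3] at h2; exact absurd h2 (by decide)
    · exact h3
    · rw [h3] at h2; exact absurd h2 (by decide)
  have hpow : ∀ a ∈ Q, (h * a * h⁻¹) ^ 3 ^ 2 = 1 := by
    intro a ha
    have h1 : (⟨a, ha⟩ : Q) ^ Nat.card Q = 1 := pow_card_eq_one'
    rw [hQcard] at h1
    have h2 : a ^ 3 ^ 2 = 1 := by
      have := congrArg Subtype.val h1
      simpa using this
    rw [conj_pow, h2]; group
  -- the fixed points of one are fixed by the other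
  have hsub : ∀ a ∈ Q, ∀ b ∈ Q, a ≠ 1 → ∀ v, ρ (h * a * h⁻¹) v = v → ρ (h * b * h⁻¹) v = v := by
    intro a ha b hb ha1
    apply fixed_of_fx2_eq
    have hcab : Commute (h * a * h⁻¹) (h * b * h⁻¹) := by
      show h * a * h⁻¹ * (h * b * h⁻¹) = h * b * h⁻¹ * (h * a * h⁻¹)
      have e1 : h * a * h⁻¹ * (h * b * h⁻¹) = h * (a * b) * h⁻¹ := by group
      have e2 : h * b * h⁻¹ * (h * a * h⁻¹) = h * (b * a) * h⁻¹ := by group
      rw [e1, e2, hQcomm a ha b hb]
    have h1 : fx (ρ (h * a * h⁻¹)) ≡ fx2 (ρ (h * a * h⁻¹)) (ρ (h * b * h⁻¹)) [MOD 3] :=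
      fx_modEq_fx2 (p := 3) (k := 2) (hpow b hb) hcab
    have h2 : 13 ∣ fx2 (ρ (h * a * h⁻¹)) (ρ (h * b * h⁻¹)) :=
      dvd_fx2_of_commute hy13 hyf (hcy a ha) (hcy b hb)
    have h3 := fx2_le (ρ (h * a * h⁻¹)) (ρ (h * b * h⁻¹))
    rw [hfx a ha ha1] at h1 h3 ⊢
    unfold Nat.ModEq at h1
    omega
  -- all nontrivial elements are powers of one
  obtain ⟨a, ha, ha1⟩ : ∃ a ∈ Q, a ≠ 1 := by
    rcases Q.bot_or_exists_ne_one with hb | hb
    · rw [hb, Subgroup.card_bot] at hQcard
      norm_num at hQcard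
    · exact hb
  have hcube : ∀ b ∈ Q, b ≠ 1 → b ^ 3 = 1 := by
    intro b hb hb1
    have h1 := H.cube3 _ (hh b hb) (hfx b hb hb1)
    rw [conj_pow] at h1
    have : b ^ 3 = h⁻¹ * (h * b ^ 3 * h⁻¹) * h := by group
    rw [this, h1]; group
  have hall : ∀ b ∈ Q, b = 1 ∨ b = a ∨ b = a * a := by
    intro b hb
    by_cases hb1 : b = 1
    · left; exact hb1
    · right
      by_contra hcon
      obtain ⟨hba, hbaa⟩ := not_or.1 hcon
      have ha3 := hcube a ha ha1
      have hb3 := hcube b hb hb1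
      have hab1 : a * b ≠ 1 := by
        intro h1
        apply hbaa
        have h2 : b = a⁻¹ := eq_inv_of_mul_eq_one_right h1
        rw [h2]
        apply inv_eq_of_mul_eq_one_right
        rw [← mul_assoc, ← pow_two, ← pow_succ]
        exact ha3
      have habb1 : a * b * b ≠ 1 := by
        intro h1
        apply hba
        have h2 : b * b = a⁻¹ := by
          rw [mul_assoc] at h1
          exact eq_inv_of_mul_eq_one_right h1
        calc b = (b ^ 3) * b := by rw [hb3, one_mul]
          _ = (b * b) * (b * b) := by rw [pow_succ, pow_two]; simp only [mul_assoc]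
          _ = a⁻¹ * a⁻¹ := by rw [h2]
          _ = (a ^ 3)⁻¹ * a := by group
          _ = a := by rw [ha3, inv_one, one_mul]
      have hq1 : a * b ∈ Q := Q.mul_mem ha hb
      have hq2 : a * b * b ∈ Q := Q.mul_mem hq1 hb
      have h1 := H.pair3 _ (hh a ha) _ (hh b hb) (hfx a ha ha1) (hfx b hb hb1)
        (fun v => ⟨hsub a ha b hb ha1 v, hsub b hb a ha hb1 v⟩)
      rcases h1 with h1 | h1 | h1 | h1
      · apply hba
        have : b = h⁻¹ * (h * b * h⁻¹) * h := by group
        rw [this, h1]; group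
      · apply hbaa
        have : b = h⁻¹ * (h * b * h⁻¹) * h := by group
        rw [this, h1]; group
      · apply h1
        have : h * a * h⁻¹ * (h * b * h⁻¹) = h * (a * b) * h⁻¹ := by group
        rw [this]
        exact hfx _ hq1 hab1
      · apply h1
        have : h * a * h⁻¹ * (h * b * h⁻¹) * (h * b * h⁻¹) = h * (a * b * b) * h⁻¹ := by group
        rw [this]
        exact hfx _ hq2 habb1
  have hle : Nat.card Q ≤ 3 := by
    classical
    have hsubset : (Q : Set G) ⊆ (({1, a, a * a} : Finset G) : Set G) := by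
      intro b hb
      rcases hall b hb with h1 | h1 | h1 <;> simp [h1]
    calc Nat.card Q = (Q : Set G).ncard := (Nat.card_coe_set_eq _)
      _ ≤ ((({1, a, a * a} : Finset G)) : Set G).ncard :=
        Set.ncard_le_ncard hsubset (Finset.finite_toSet _)
      _ = ({1, a, a * a} : Finset G).card := Set.ncard_coe_finset _
      _ ≤ 3 := Finset.card_le_three
  rw [hQcard] at hle
  omega

/-- the centralizer of `y` has order 13 -/
theorem card_centralizer_y : Nat.card (Subgroup.centralizer ({H.y} : Set G)) = 13 := by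
  have : Fact (Nat.Prime 13) := ⟨by norm_num⟩
  have : Fact (Nat.Prime 2) := ⟨by norm_num⟩
  have : Fact (Nat.Prime 7) := ⟨by norm_num⟩
  have hy13 : H.y ^ 13 = 1 := by rw [← H.ordy, pow_orderOf_eq_one]
  have h2 : ¬ 2 ∣ Nat.card (Subgroup.centralizer ({H.y} : Set G)) :=
    not_dvd_card_centralizer ρ hy13 H.fpfy H.S2 (k := 6) (by rw [H.card2]; norm_num) H.not_dvd2
      (fun a ha ho => by rw [H.good2 a ha ho]; decide)
  have h9 := H.not_nine_dvd
  have h13 : 13 ∣ Nat.card (Subgroup.centralizer ({H.y} : Set G)) := by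
    rw [← H.ordy]
    exact Subgroup.orderOf_dvd_natCard _ (Subgroup.mem_centralizer_iff.2 (fun w hw => by
      rw [Set.mem_singleton_iff] at hw; rw [hw]))
  have hd : Nat.card (Subgroup.centralizer ({H.y} : Set G)) ∣ 4245696 := by
    rw [← H.card]; exact Subgroup.card_subgroup_dvd_card _
  -- no element of order 7
  have h7 : ¬ 7 ∣ Nat.card (Subgroup.centralizer ({H.y} : Set G)) := by
    intro h7
    obtain ⟨w, hw⟩ := exists_prime_orderOf_dvd_card' 7 h7
    have hw' : orderOf (w : G) = 7 := by rw [Subgroup.orderOf_coe, hw]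
    have hc : Commute (w : G) H.y := (Subgroup.mem_centralizer_iff.1 w.2 H.y rfl).symm
    -- the product has order 91
    have ho : orderOf ((w : G) * H.y) = 7 * 13 := by
      rw [← hw', ← H.ordy]
      apply hc.orderOf_mul_eq_mul_orderOf_of_coprime
      rw [hw', H.ordy]; decide
    have hpw : ((w : G) * H.y) ^ 13 = (w : G) ^ 13 := by
      rw [hc.mul_pow, hy13, mul_one]
    have h1 : orderOf (((w : G) * H.y) ^ 13) = 7 := by
      rw [orderOf_pow_of_dvd (by norm_num) (by rw [ho]; exact dvd_mul_left _ _), ho]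
    have h3 := orderOf_dvd_card_centralizer H.not_dvd7 H.ordx _ 13 h1
    rw [ho, H.card_centralizer_x] at h3
    exact absurd h3 (by decide)
  obtain ⟨n, k, e1, e2, e3, e4⟩ := sylow_prime_count H.y H.ordy H.not_dvd13
  have e5 := e4 H.z 3 H.conjy
  rw [H.card] at e1
  generalize Nat.card (Subgroup.centralizer ({H.y} : Set G)) = c at h2 h9 h13 hd h7 e1 ⊢
  -- `c` divides `3 * 13`
  have hc : c ∣ 39 := by
    have hc2 : Nat.Coprime c (2 ^ 6 * 7) := by
      apply Nat.Coprime.mul_right
      · apply Nat.Coprime.pow_right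
        exact ((Nat.Prime.coprime_iff_not_dvd Nat.prime_two).2 h2).symm
      · exact ((Nat.Prime.coprime_iff_not_dvd (by norm_num : Nat.Prime 7)).2 h7).symm
    have e : (4245696 : ℕ) = 2 ^ 6 * 7 * (3 ^ 6 * 13) := by norm_num
    rw [e] at hd
    have hd1 : c ∣ 3 ^ 6 * 13 := hc2.dvd_of_dvd_mul_left hd
    by_cases h3 : 3 ∣ c
    · obtain ⟨c', rfl⟩ := h3
      have h3' : ¬ 3 ∣ c' := by
        intro h
        apply h9
        obtain ⟨c'', rfl⟩ := h
        exact ⟨c'', by ring⟩
      have hd2 : c' ∣ 3 ^ 5 * 13 := by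
        have e' : (3 : ℕ) ^ 6 * 13 = 3 * (3 ^ 5 * 13) := by norm_num
        rw [e'] at hd1
        exact (Nat.mul_dvd_mul_iff_left (by norm_num)).1 hd1
      have hc3 : Nat.Coprime c' (3 ^ 5) := by
        apply Nat.Coprime.pow_right
        exact ((Nat.Prime.coprime_iff_not_dvd Nat.prime_three).2 h3').symm
      have hd3 : c' ∣ 13 := hc3.dvd_of_dvd_mul_left hd2
      have e'' : (39 : ℕ) = 3 * 13 := by norm_num
      rw [e'']
      exact Nat.mul_dvd_mul_left 3 hd3
    · have hc3 : Nat.Coprime c (3 ^ 6) := by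
        apply Nat.Coprime.pow_right
        exact ((Nat.Prime.coprime_iff_not_dvd Nat.prime_three).2 h3).symm
      exact (hc3.dvd_of_dvd_mul_left hd1).trans (by norm_num)
  have hmem : c ∈ Nat.divisors 39 := Nat.mem_divisors.2 ⟨hc, by norm_num⟩
  have hdiv : Nat.divisors 39 = {1, 3, 13, 39} := by decide
  rw [hdiv] at hmem
  simp only [Finset.mem_insert, Finset.mem_singleton] at hmem
  have hk12 : k ∣ 12 := e3
  have hkle : k ≤ 12 := Nat.le_of_dvd (by norm_num) hk12
  unfold Nat.ModEq at e2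
  rcases hmem with rfl | rfl | rfl | rfl
  · omega
  · omega
  · rfl
  · exfalso
    interval_cases k <;> first | omega | (revert e5; decide)

/-- **No elements of mixed orders.** -/
theorem orderOf_ne (u : G) : orderOf u ≠ 14 ∧ orderOf u ≠ 21 ∧ orderOf u ≠ 26 ∧ orderOf u ≠ 39 ∧
    orderOf u ≠ 91 := by
  have : Fact (Nat.Prime 13) := ⟨by norm_num⟩
  have : Fact (Nat.Prime 7) := ⟨by norm_num⟩
  have key7 : ∀ e : ℕ, e ≠ 0 → orderOf u = e * 7 → e = 1 := by
    intro e he ho
    have h1 : orderOf (u ^ e) = 7 := by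
      rw [orderOf_pow_of_dvd he (by rw [ho]; exact dvd_mul_right _ _), ho,
        Nat.mul_div_cancel_left _ (Nat.pos_of_ne_zero he)]
    have h3 := orderOf_dvd_card_centralizer H.not_dvd7 H.ordx u e h1
    rw [ho, H.card_centralizer_x] at h3
    have := Nat.le_of_dvd (by norm_num) h3
    omega
  have key13 : ∀ e : ℕ, e ≠ 0 → orderOf u = e * 13 → e = 1 := by
    intro e he ho
    have h1 : orderOf (u ^ e) = 13 := by
      rw [orderOf_pow_of_dvd he (by rw [ho]; exact dvd_mul_right _ _), ho,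
        Nat.mul_div_cancel_left _ (Nat.pos_of_ne_zero he)]
    have h3 := orderOf_dvd_card_centralizer H.not_dvd13 H.ordy u e h1
    rw [ho, H.card_centralizer_y] at h3
    have := Nat.le_of_dvd (by norm_num) h3
    omega
  refine ⟨fun h => ?_, fun h => ?_, fun h => ?_, fun h => ?_, fun h => ?_⟩
  · have := key7 2 (by norm_num) (by rw [h])
    omega
  · have := key7 3 (by norm_num) (by rw [h])
    omega
  · have := key13 2 (by norm_num) (by rw [h])
    omega
  · have := key13 3 (by norm_num) (by rw [h])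
    omega
  · have := key7 13 (by norm_num) (by rw [h])
    omega

end Hyp

end Cfsg.Agent.Helper2.G23P
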