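import Mathlib
import Cfsg.Agent.Helper2.G23P.Pack

/-!
# Checking functions for lists of packed permutations
-/

set_option autoImplicit false

namespace Cfsg.Agent.Helper2.G23P

/-- all members satisfy `P` -/
def allL {α : Type} (P : α → Bool) : List α → Bool
  | [] => true
  | x :: r => P x && allL P r

/-- membership -/
def memB (x : ℕ) : List ℕ → Bool
  | [] => false
  | y :: r => Nat.beq x y || memB x r

/-- equality of lists -/
def eqL : List ℕ → List ℕ → Bool
  | [], [] => true
  | x :: r, y :: s => Nat.beq x y && eqL r s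
  | _, _ => false

/-- no repetitions -/
def nodupB : List ℕ → Bool
  | [] => true
  | x :: r => !(memB x r) && nodupB r

/-- filter -/
def filterL (P : ℕ → Bool) : List ℕ → List ℕ
  | [] => []
  | x :: r => cond (P x) (x :: filterL P r) (filterL P r)

theorem allL_spec {α : Type} {P : α → Bool} : ∀ {L : List α}, allL P L = true →
    ∀ x ∈ L, P x = true
  | [], _, x, hx => absurd hx List.not_mem_nil
  | y :: r, h, x, hx => by
    simp only [allL, Bool.and_eq_true] at h
    rcases List.mem_cons.1 hx with rfl | hx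
    · exact h.1
    · exact allL_spec h.2 x hx

theorem memB_iff {x : ℕ} : ∀ {L : List ℕ}, memB x L = true ↔ x ∈ L
  | [] => by simp [memB]
  | y :: r => by
    simp only [memB, Bool.or_eq_true, nbeq_iff, List.mem_cons, memB_iff (L := r)]

theorem eqL_eq : ∀ {L L' : List ℕ}, eqL L L' = true → L = L'
  | [], [], _ => rfl
  | [], _ :: _, h => by simp [eqL] at h
  | _ :: _, [], h => by simp [eqL] at h
  | x :: r, y :: s, h => by
    simp only [eqL, Bool.and_eq_true, nbeq_iff] at h
    rw [h.1, eqL_eq h.2]

theorem eqL_refl : ∀ L : List ℕ, eqL L L = true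
  | [] => rfl
  | x :: r => by simp only [eqL, Bool.and_eq_true, nbeq_iff, eqL_refl r, and_self]

theorem nodupB_spec : ∀ {L : List ℕ}, nodupB L = true → L.Nodup
  | [], _ => List.nodup_nil
  | x :: r, h => by
    simp only [nodupB, Bool.and_eq_true, Bool.not_eq_true', ← Bool.not_eq_true, memB_iff] at h
    exact List.nodup_cons.2 ⟨h.1, nodupB_spec h.2⟩

theorem mem_filterL {P : ℕ → Bool} {x : ℕ} : ∀ {L : List ℕ}, x ∈ filterL P L ↔ x ∈ L ∧ P x = true
  | [] => by simp [filterL]
  | y :: r => by
    unfold filterL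
    cases hy : P y
    · simp only [cond_false, mem_filterL (L := r), List.mem_cons]
      constructor
      · rintro ⟨h1, h2⟩; exact ⟨Or.inr h1, h2⟩
      · rintro ⟨h1 | h1, h2⟩
        · rw [h1, hy] at h2; exact absurd h2 (by simp)
        · exact ⟨h1, h2⟩
    · simp only [cond_true, List.mem_cons, mem_filterL (L := r)]
      constructor
      · rintro (h1 | ⟨h1, h2⟩)
        · rw [h1]; exact ⟨Or.inl rfl, hy⟩
        · exact ⟨Or.inr h1, h2⟩
      · rintro ⟨h1 | h1, h2⟩
        · exact Or.inl h1
        · exact Or.inr ⟨h1, h2⟩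

/-- the cosets `A^i L0` for `i < p`, concatenated -/
def cosets (A : ℕ) (L0 : List ℕ) : ℕ → List ℕ
  | 0 => []
  | i + 1 => cosets A L0 i ++ L0.map (fun l => (mulP A)^[i] l)

theorem mem_cosets {A : ℕ} {L0 : List ℕ} {l : ℕ} : ∀ {p : ℕ},
    l ∈ cosets A L0 p ↔ ∃ i, i < p ∧ ∃ l' ∈ L0, l = (mulP A)^[i] l'
  | 0 => by simp [cosets]
  | p + 1 => by
    unfold cosets
    rw [List.mem_append, mem_cosets (p := p), List.mem_map]
    constructor
    · rintro (⟨i, hi, h⟩ | ⟨l', h1, h2⟩)
      · exact ⟨i, Nat.lt_succ_of_lt hi, h⟩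
      · exact ⟨p, Nat.lt_succ_self p, l', h1, h2.symm⟩
    · rintro ⟨i, hi, l', h1, h2⟩
      rcases Nat.lt_succ_iff_lt_or_eq.1 hi with hi | rfl
      · exact Or.inl ⟨i, hi, l', h1, h2⟩
      · exact Or.inr ⟨l', h1, h2.symm⟩

/-- the test for a polycyclic sequence `As` of relative orders `p` spanning the list `L` -/
def pcOK (p : ℕ) : List ℕ → List ℕ → Bool
  | [], L => eqL L [idP]
  | A :: r, L =>
      pcOK p r (L.take (p ^ r.length)) && eqL L (cosets A (L.take (p ^ r.length)) p) &&
        memB ((mulP A)^[p] idP) (L.take (p ^ r.length)) &&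
        allL (fun B => memB (mulP A (mulP B ((mulP A)^[p - 1] idP))) (L.take (p ^ r.length))) r

theorem allL_append {α : Type} (P : α → Bool) : ∀ (X Y : List α),
    allL P (X ++ Y) = (allL P X && allL P Y)
  | [], Y => by simp [allL]
  | x :: X, Y => by
    show (P x && allL P (X ++ Y)) = ((P x && allL P X) && allL P Y)
    rw [allL_append P X Y, Bool.and_assoc]

theorem allL_append3 {α : Type} {P : α → Bool} {X Y Z : List α} (hX : allL P X = true)
    (hY : allL P Y = true) (hZ : allL P Z = true) : allL P (X ++ (Y ++ Z)) = true := by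
  rw [allL_append, allL_append, hX, hY, hZ]
  rfl

/-- the test for a polycyclic sequence of relative orders 3, with the list given by its three
cosets -/
theorem pcOK_cons3 {A : ℕ} {r La Lb Lc : List ℕ} (hlen : La.length = 3 ^ r.length)
    (h0 : pcOK 3 r La = true) (hb : eqL Lb (La.map (mulP A)) = true)
    (hc : eqL Lc (Lb.map (mulP A)) = true) (hcube : memB ((mulP A)^[3] idP) La = true)
    (hconj : allL (fun B => memB (mulP A (mulP B ((mulP A)^[3 - 1] idP))) La) r = true) :
    pcOK 3 (A :: r) (La ++ (Lb ++ Lc)) = true := by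
  have htake : (La ++ (Lb ++ Lc)).take (3 ^ r.length) = La := by
    rw [← hlen]
    exact List.take_left
  unfold pcOK
  rw [htake]
  simp only [Bool.and_eq_true]
  refine ⟨⟨⟨h0, ?_⟩, hcube⟩, hconj⟩
  have e0 : La.map (fun l => (mulP A)^[0] l) = La := by simp
  have e1 : La.map (fun l => (mulP A)^[1] l) = Lb := by
    rw [eqL_eq hb]
    apply List.map_congr_left
    intro l _
    rw [Function.iterate_succ_apply, Function.iterate_zero_apply]
  have e2 : La.map (fun l => (mulP A)^[2] l) = Lc := by
    rw [eqL_eq hc, eqL_eq hb, List.map_map]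
    apply List.map_congr_left
    intro l _
    rw [Function.iterate_succ_apply, Function.iterate_succ_apply, Function.iterate_zero_apply,
      Function.comp_apply]
  have hcos : cosets A La 3 = La ++ (Lb ++ Lc) := by
    show (([] ++ La.map (fun l => (mulP A)^[0] l)) ++ La.map (fun l => (mulP A)^[1] l)) ++
      La.map (fun l => (mulP A)^[2] l) = _
    rw [e0, e1, e2, List.nil_append, List.append_assoc]
  rw [hcos]
  exact eqL_refl _

/-- the key of a packed permutation: the images of `0` and `1` -/
def key2 (l : ℕ) : ℕ := Nat.add (tb l 0) (Nat.mul 1024 (tb l 1))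

/-- the packed permutation is the identity -/
def isId (l : ℕ) : Bool := allB (fun v => Nat.beq (tb l v) v) 728

/-- the fixed points `< n` of a packed permutation, prepended to `acc` -/
def fixLAux (l : ℕ) : ℕ → List ℕ → List ℕ
  | 0, acc => acc
  | n + 1, acc => fixLAux l n (cond (Nat.beq (tb l n) n) (n :: acc) acc)

/-- the list of the fixed points of a packed permutation -/
def fixL (l : ℕ) : List ℕ := fixLAux l 728 []

theorem fixLAux_congr {l l' : ℕ} : ∀ (n : ℕ) (acc : List ℕ),
    (∀ v, v < n → (tb l v = v ↔ tb l' v = v)) → fixLAux l n acc = fixLAux l' n acc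
  | 0, _, _ => rfl
  | n + 1, acc, h => by
    unfold fixLAux
    have h1 : Nat.beq (tb l n) n = Nat.beq (tb l' n) n := by
      rw [Bool.eq_iff_iff, nbeq_iff, nbeq_iff]
      exact h n (Nat.lt_succ_self n)
    rw [h1]
    exact fixLAux_congr n _ (fun v hv => h v (Nat.lt_succ_of_lt hv))

theorem mem_fixLAux {l : ℕ} {v : ℕ} : ∀ (n : ℕ) (acc : List ℕ),
    v ∈ fixLAux l n acc ↔ (v < n ∧ tb l v = v) ∨ v ∈ acc
  | 0, acc => by simp [fixLAux]
  | n + 1, acc => by
    unfold fixLAux
    rw [mem_fixLAux n]
    cases hb : Nat.beq (tb l n) n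
    · have hne : tb l n ≠ n := fun h => by rw [(nbeq_iff _ _).2 h] at hb; exact absurd hb (by simp)
      simp only [cond_false]
      constructor
      · rintro (⟨h1, h2⟩ | h)
        · exact Or.inl ⟨Nat.lt_succ_of_lt h1, h2⟩
        · exact Or.inr h
      · rintro (⟨h1, h2⟩ | h)
        · rcases Nat.lt_succ_iff_lt_or_eq.1 h1 with h1 | rfl
          · exact Or.inl ⟨h1, h2⟩
          · exact absurd h2 hne
        · exact Or.inr h
    · have he : tb l n = n := (nbeq_iff _ _).1 hb
      simp only [cond_true, List.mem_cons]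
      constructor
      · rintro (⟨h1, h2⟩ | rfl | h)
        · exact Or.inl ⟨Nat.lt_succ_of_lt h1, h2⟩
        · exact Or.inl ⟨Nat.lt_succ_self _, he⟩
        · exact Or.inr h
      · rintro (⟨h1, h2⟩ | h)
        · rcases Nat.lt_succ_iff_lt_or_eq.1 h1 with h1 | rfl
          · exact Or.inl ⟨h1, h2⟩
          · exact Or.inr (Or.inl rfl)
        · exact Or.inr (Or.inr h)

theorem mem_fixL {l v : ℕ} : v ∈ fixL l ↔ v < 728 ∧ tb l v = v := by
  unfold fixL
  rw [mem_fixLAux]
  simp

/-- the test for the elements of the Sylow 2-subgroup: the involutions fix 8 points -/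
def inv2OK (l : ℕ) : Bool :=
  isId l || !(allB (fun v => Nat.beq (tb l (tb l v)) v) 728) || Nat.beq (fixc l) 8

/-- the test for the elements of the Sylow 3-subgroup: `2, 8, 26` or `80` fixed points -/
def el3OK (l : ℕ) : Bool := isId l || memB (fixc l) [2, 8, 26, 80]

/-- the elements with `26` fixed points -/
def isT (l : ℕ) : Bool := Nat.beq (fixc l) 26

/-- the packed permutation cubes to the identity -/
def isCub (l : ℕ) : Bool := allB (fun v => Nat.beq (tb l (tb l (tb l v))) v) 728

/-- the key of a packed product -/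
def keyMul (s t : ℕ) : ℕ := Nat.add (tb s (tb t 0)) (Nat.mul 1024 (tb s (tb t 1)))

/-- the key of a packed product `s t t` -/
def keyMul2 (s t : ℕ) : ℕ :=
  Nat.add (tb s (tb t (tb t 0))) (Nat.mul 1024 (tb s (tb t (tb t 1))))

/-- the test for the pairs of elements with 26 fixed points: those with the same fixed points
as `s` are `s`, its square, or have a product with `s` with another number of fixed points; the
elements are recognized by their keys -/
def pairOK (LTF : List (ℕ × List ℕ)) (KT : List ℕ) : Bool :=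
  allL (fun s => allL (fun t => !(eqL t.2 s.2) || Nat.beq t.1 s.1 ||
    Nat.beq (key2 t.1) (keyMul s.1 s.1) || !(memB (keyMul s.1 t.1) KT) ||
    !(memB (keyMul2 s.1 t.1) KT)) LTF) LTF

/-- the packed permutation has no fixed points -/
def fpfB (l : ℕ) : Bool := allB (fun v => !(Nat.beq (tb l v) v)) 728

/-- the packed permutation has order 6 -/
def ord6B (l : ℕ) : Bool :=
  isId ((mulP l)^[6] idP) && !(isId (mulP l l)) && !(isId (mulP l (mulP l l)))

/-- the packed permutation `n` conjugates `y` to its cube -/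
def conj3B (n y : ℕ) : Bool := Nat.beq (mulP n y) (mulP y (mulP y (mulP y n)))

/-- the test for the lists of fixed points -/
def fixOK (LTF : List (ℕ × List ℕ)) : Bool := allL (fun t => eqL t.2 (fixL t.1)) LTF

end Cfsg.Agent.Helper2.G23P
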