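import Mathlib
import Cfsg.Agent.Helper5.G23Chk
import Cfsg.Agent.Helper2.G23P.PcDefs
import Cfsg.Agent.Helper2.G23P.Dat

/-!
# Kernel checks: the packed permutations of the words
-/

set_option autoImplicit false
set_option Elab.async false
set_option maxRecDepth 100000

namespace Cfsg.Agent.Helper2.G23P

open Cfsg.Agent.Helper5.G23 (tabF)
open Cfsg.Agent.Helper5.LP (actL)

/-- packed permutation of a word -/
def pw (w : List ℕ) : ℕ := pack (fun v => actL tabF w v)

theorem chk_A2 : eqL (W2.map pw) A2 = true := by decide +kernel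

theorem chk_A3 : eqL (W3.map pw) A3 = true := by decide +kernel

theorem chk_AX : eqL (WX.map pw) AX = true := by decide +kernel

theorem chk_fpfX : fpfB aX = true := by decide +kernel

theorem chk_fpfY : fpfB aY = true := by decide +kernel

theorem chk_conjN : conj3B aN aY = true := by decide +kernel

theorem chk_conjM : conj3B aM aX = true := by decide +kernel

theorem chk_ord6 : ord6B a6 = true := by decide +kernel

theorem chk_W2 : ∀ w ∈ W2, ∀ c ∈ w, c < 6 := by decide

theorem chk_W3 : ∀ w ∈ W3, ∀ c ∈ w, c < 6 := by decide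

theorem chk_WX : ∀ w ∈ WX, ∀ c ∈ w, c < 6 := by decide

end Cfsg.Agent.Helper2.G23P
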