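import Mathlib
import Cfsg.Agent.Helper2.G23P.PcDefs
import Cfsg.Agent.Helper2.G23P.Dat

/-!
# Kernel checks: the Sylow 2-subgroup
-/

set_option autoImplicit false
set_option Elab.async false
set_option maxRecDepth 100000

namespace Cfsg.Agent.Helper2.G23P

theorem chk_pc2 : pcOK 2 A2 L2 = true := by decide +kernel

theorem chk_key2 : nodupB (L2.map key2) = true := by decide +kernel

theorem chk_inv2 : allL inv2OK L2 = true := by decide +kernel

theorem chk_len2 : L2.length = 64 := by decide +kernel

end Cfsg.Agent.Helper2.G23P
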