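import Mathlib
import Cfsg.Agent.Helper2.G23P.DatA
import Cfsg.Agent.Helper2.G23P.DatB
import Cfsg.Agent.Helper2.G23P.DatC

/-!
# The packed Sylow 3-subgroup of `G₂(3)` on 728 points
-/

set_option autoImplicit false

namespace Cfsg.Agent.Helper2.G23P

/-- the packed Sylow 3-subgroup -/
def L3 : List ℕ := L3a ++ (L3b ++ L3c)

end Cfsg.Agent.Helper2.G23P
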