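import Mathlib
import Cfsg.Agent.Helper2.G23P.PcDefs
import Cfsg.Agent.Helper2.G23P.Dat
import Cfsg.Agent.Helper2.G23P.Dat3

/-!
# Kernel checks: the Sylow 3-subgroup is spanned by its polycyclic sequence
-/

set_option autoImplicit false
set_option Elab.async false
set_option maxRecDepth 100000

namespace Cfsg.Agent.Helper2.G23P

theorem chk_len3a : L3a.length = 3 ^ [a32, a33, a34, a35, a36].length := by decide +kernel

theorem chk_pc3_low : pcOK 3 [a32, a33, a34, a35, a36] L3a = true := by decide +kernel

theorem chk_pc3_b : eqL L3b (L3a.map (mulP a31)) = true := by decide +kernel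

theorem chk_pc3_c : eqL L3c (L3b.map (mulP a31)) = true := by decide +kernel

theorem chk_pc3_cube : memB ((mulP a31)^[3] idP) L3a = true := by decide +kernel

theorem chk_pc3_conj : allL (fun B => memB (mulP a31 (mulP B ((mulP a31)^[3 - 1] idP))) L3a)
    [a32, a33, a34, a35, a36] = true := by decide +kernel

theorem chk_pc3 : pcOK 3 A3 L3 = true :=
  pcOK_cons3 chk_len3a chk_pc3_low chk_pc3_b chk_pc3_c chk_pc3_cube chk_pc3_conj

theorem chk_key3 : nodupB (L3.map key2) = true := by decide +kernel

theorem chk_len3 : L3.length = 729 := by decide +kernel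

end Cfsg.Agent.Helper2.G23P
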