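import Mathlib
import Cfsg.Agent.Helper2.G23P.PcDefs
import Cfsg.Agent.Helper2.G23P.Dat3

/-!
# Kernel checks: the numbers of fixed points of the elements of the Sylow 3-subgroup
-/

set_option autoImplicit false
set_option Elab.async false
set_option maxRecDepth 100000

namespace Cfsg.Agent.Helper2.G23P

theorem chk_el3a : allL el3OK L3a = true := by decide +kernel

theorem chk_el3b : allL el3OK L3b = true := by decide +kernel

theorem chk_el3c : allL el3OK L3c = true := by decide +kernel

theorem chk_el3 : allL el3OK L3 = true := allL_append3 chk_el3a chk_el3b chk_el3c

end Cfsg.Agent.Helper2.G23P
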