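import Mathlib
import Cfsg.Agent.Helper2.G23P.PcDefs
import Cfsg.Agent.Helper2.G23P.Dat
import Cfsg.Agent.Helper2.G23P.Dat3

/-!
# Kernel checks: the elements of the Sylow 3-subgroup with 26 fixed points
-/

set_option autoImplicit false
set_option Elab.async false
set_option maxRecDepth 100000

namespace Cfsg.Agent.Helper2.G23P

/-- the elements with 26 fixed points are listed -/
def inLT (l : ℕ) : Bool := !(isT l) || memB l (LTF.map Prod.fst)

theorem chk_LTa : allL inLT L3a = true := by decide +kernel

theorem chk_LTb : allL inLT L3b = true := by decide +kernel

theorem chk_LTc : allL inLT L3c = true := by decide +kernel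

theorem chk_LT : allL inLT L3 = true := allL_append3 chk_LTa chk_LTb chk_LTc

theorem chk_fixL : fixOK LTF = true := by decide +kernel

theorem chk_cub : allL (fun t => isCub t.1) LTF = true := by decide +kernel

end Cfsg.Agent.Helper2.G23P
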