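import Mathlib
import Cfsg.Agent.Helper2.G23P.PcDefs
import Cfsg.Agent.Helper2.G23P.Dat

/-!
# Kernel checks: the pairs of elements with 26 fixed points and the same fixed points
-/

set_option autoImplicit false
set_option Elab.async false
set_option maxRecDepth 100000

namespace Cfsg.Agent.Helper2.G23P

/-- the keys of the elements with 26 fixed points -/
def KT : List ℕ := [95240, 436266, 19514, 127598, 54659, 712244, 148788, 114047, 653477, 246300, 736912, 240013, 130769, 489821, 455223, 565436, 612650, 11648, 64029, 541064, 198056, 519337, 506546, 268947, 70664, 416810, 213559, 33980, 743816, 598440, 99336, 332842, 689719, 32956, 303496, 190888, 6144, 266248, 422954, 550272, 3613, 561450, 235155, 385193, 531122, 183296, 203784, 342058, 353588, 70015, 63028, 259728, 451749, 371228, 185344, 270344, 685098, 560515, 431162, 728686, 413393, 27997, 267661, 34816, 379912, 500778, 439836, 118416, 516261, 292189, 249229, 664273, 154624, 328712, 326698, 227711, 23092, 525620, 319154, 156307, 382121, 225280, 384008, 98346, 314990, 39299, 325690, 456221, 276778, 347520, 12319, 213463, 682539, 598321, 71161, 69265, 341464, 99799, 689457, 374306, 190969, 488037, 519640,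 63519, 149035, 54818, 246373, 240273, 32841, 374104, 303735, 487761, 341546, 333452, 64190, 519512, 54609, 148868, 246314, 239756, 69310, 416841, 34423, 12676, 682124, 744076]

theorem chk_KT : eqL (LTF.map (fun t => key2 t.1)) KT = true := by decide +kernel

theorem chk_pair : pairOK LTF KT = true := by decide +kernel

end Cfsg.Agent.Helper2.G23P
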