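import Mathlib
import Cfsg.Agent.Helper2.G23P.PcDefs

/-!
# Subgroups listed by packed permutations, and polycyclic sequences
-/

set_option autoImplicit false

namespace Cfsg.Agent.Helper2.G23P

variable {G : Type*} [Group G] (ρ : G →* Equiv.Perm (Fin 728))

/-- the list `L` consists of packed forms of exactly the elements of `H` -/
structure SubRep (H : Subgroup G) (L : List ℕ) : Prop where
  /-- every element is listed -/
  fwd : ∀ σ ∈ H, ∃ l ∈ L, Rep (ρ σ) l
  /-- every entry is an element -/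
  bwd : ∀ l ∈ L, ∃ σ ∈ H, Rep (ρ σ) l

theorem rep_one' : Rep (ρ 1) idP := by
  rw [map_one]; exact rep_one

theorem rep_mul' {a b : G} {A B : ℕ} (ha : Rep (ρ a) A) (hb : Rep (ρ b) B) :
    Rep (ρ (a * b)) (mulP A B) := by
  rw [map_mul]; exact rep_mul ha hb

theorem subRep_bot : SubRep ρ ⊥ [idP] := by
  constructor
  · intro σ hσ
    rw [Subgroup.mem_bot] at hσ
    subst hσ
    exact ⟨idP, List.mem_singleton.2 rfl, rep_one' ρ⟩
  · intro l hl
    rw [List.mem_singleton] at hl
    rw [hl]
    exact ⟨1, Subgroup.mem_bot.2 rfl, rep_one' ρ⟩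

variable {ρ}

theorem rep_iterate {a : G} {A : ℕ} (ha : Rep (ρ a) A) : ∀ (i : ℕ) {τ : G} {l : ℕ},
    Rep (ρ τ) l → Rep (ρ (a ^ i * τ)) ((mulP A)^[i] l)
  | 0, τ, l, h => by simpa using h
  | i + 1, τ, l, h => by
    rw [Function.iterate_succ_apply]
    have := rep_iterate ha i (rep_mul' ρ ha h)
    rwa [← mul_assoc, ← pow_succ] at this

theorem rep_pow {a : G} {A : ℕ} (ha : Rep (ρ a) A) (i : ℕ) :
    Rep (ρ (a ^ i)) ((mulP A)^[i] idP) := by
  have := rep_iterate ha i (rep_one' ρ)
  rwa [mul_one] at this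

/-- adjoining an element normalizing `H` with `p`-th power in `H` -/
theorem SubRep.step {H : Subgroup G} {L0 : List ℕ} (h : SubRep ρ H L0) {a : G} {A : ℕ}
    (ha : Rep (ρ a) A) {p : ℕ} (hp : 0 < p) (hn : a ∈ Subgroup.normalizer (H : Set G))
    (hc : a ^ p ∈ H) : SubRep ρ (Subgroup.zpowers a ⊔ H) (cosets A L0 p) := by
  constructor
  · intro σ hσ
    have hle : Subgroup.zpowers a ≤ Subgroup.normalizer (H : Set G) := Subgroup.zpowers_le.2 hn
    have hset := Subgroup.coe_mul_of_left_le_normalizer_right (Subgroup.zpowers a) H hle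
    have hσ' : σ ∈ ((Subgroup.zpowers a ⊔ H : Subgroup G) : Set G) := hσ
    rw [hset] at hσ'
    obtain ⟨u, hu, w, hw, rfl⟩ := Set.mem_mul.1 hσ'
    obtain ⟨k, rfl⟩ := Subgroup.mem_zpowers_iff.1 hu
    have hp' : (p : ℤ) ≠ 0 := by exact_mod_cast hp.ne'
    have hnn : 0 ≤ k % (p : ℤ) := Int.emod_nonneg k hp'
    have hlt : k % (p : ℤ) < p := Int.emod_lt_of_pos k (by exact_mod_cast hp)
    have hk : a ^ k = a ^ (k % (p : ℤ)).toNat * (a ^ p) ^ (k / (p : ℤ)) := by
      rw [← zpow_natCast a (k % (p : ℤ)).toNat, Int.toNat_of_nonneg hnn, ← zpow_natCast a p,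
        ← zpow_mul, ← zpow_add, Int.emod_add_mul_ediv]
    have hi : (k % (p : ℤ)).toNat < p := by
      have : ((k % (p : ℤ)).toNat : ℤ) < p := by rw [Int.toNat_of_nonneg hnn]; exact hlt
      exact_mod_cast this
    have hw' : (a ^ p) ^ (k / (p : ℤ)) * w ∈ H := H.mul_mem (H.zpow_mem hc _) hw
    obtain ⟨l', hl', hrep⟩ := h.fwd _ hw'
    refine ⟨(mulP A)^[(k % (p : ℤ)).toNat] l', mem_cosets.2 ⟨_, hi, l', hl', rfl⟩, ?_⟩
    have := rep_iterate ha (k % (p : ℤ)).toNat hrep
    rwa [← mul_assoc, ← hk] at this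
  · intro l hl
    obtain ⟨i, _, l', hl', rfl⟩ := mem_cosets.1 hl
    obtain ⟨σ', hσ', hrep⟩ := h.bwd l' hl'
    exact ⟨a ^ i * σ', Subgroup.mul_mem _
      (Subgroup.mem_sup_left (Subgroup.pow_mem _ (Subgroup.mem_zpowers a) i))
      (Subgroup.mem_sup_right hσ'), rep_iterate ha i hrep⟩

/-- an element conjugating the generators into the subgroup normalizes it -/
theorem mem_normalizer_closure [Finite G] {S : Set G} {a : G}
    (h : ∀ g ∈ S, a * g * a⁻¹ ∈ Subgroup.closure S) :
    a ∈ Subgroup.normalizer ((Subgroup.closure S : Subgroup G) : Set G) := by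
  apply Subgroup.mem_normalizer_fintype
  intro n hn
  have hle : Subgroup.closure S ≤ (Subgroup.closure S).comap (MulAut.conj a).toMonoidHom := by
    rw [Subgroup.closure_le]
    intro g hg
    exact h g hg
  exact hle hn

theorem closure_cons (a : G) (r : List G) :
    Subgroup.closure {g | g ∈ a :: r} = Subgroup.zpowers a ⊔ Subgroup.closure {g | g ∈ r} := by
  have : {g | g ∈ a :: r} = {a} ∪ {g | g ∈ r} := by
    ext g
    simp [List.mem_cons]
  rw [this, Subgroup.closure_union, Subgroup.zpowers_eq_closure]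

omit [Group G] in
theorem forall₂_mem {R : G → ℕ → Prop} : ∀ {l₁ : List G} {l₂ : List ℕ}, List.Forall₂ R l₁ l₂ →
    ∀ g ∈ l₁, ∃ B ∈ l₂, R g B
  | _, _, List.Forall₂.nil, g, hg => absurd hg List.not_mem_nil
  | _, _, List.Forall₂.cons (a := a) (b := b) (l₁ := l₁) (l₂ := l₂) h1 h2, g, hg => by
    rcases List.mem_cons.1 hg with rfl | hg
    · exact ⟨b, List.mem_cons_self, h1⟩
    · obtain ⟨B, hB, hR⟩ := forall₂_mem h2 g hg
      exact ⟨B, List.mem_cons_of_mem _ hB, hR⟩

/-- a polycyclic sequence passing the test spans its list -/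
theorem subRep_of_pcOK [Finite G] (hinj : Function.Injective ρ) {p : ℕ} (hp : 0 < p) :
    ∀ (gens : List G) (As L : List ℕ), List.Forall₂ (fun g A => Rep (ρ g) A) gens As →
      pcOK p As L = true → SubRep ρ (Subgroup.closure {g | g ∈ gens}) L
  | [], As, L, hF, hok => by
    cases hF
    unfold pcOK at hok
    rw [eqL_eq hok]
    have : {g : G | g ∈ ([] : List G)} = ∅ := by ext g; simp
    rw [this, Subgroup.closure_empty]
    exact subRep_bot ρ
  | a :: r, As, L, hF, hok => by
    cases hF with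
    | cons ha hF' =>
    rename_i A As'
    unfold pcOK at hok
    simp only [Bool.and_eq_true] at hok
    obtain ⟨⟨⟨h1, h2⟩, h3⟩, h4⟩ := hok
    have h0 := subRep_of_pcOK hinj hp r As' _ hF' h1
    have key : ∀ {τ : G} {l : ℕ}, Rep (ρ τ) l → l ∈ L.take (p ^ As'.length) →
        τ ∈ Subgroup.closure {g | g ∈ r} := by
      intro τ l hτ hl
      obtain ⟨σ, hσ, hrep⟩ := h0.bwd l hl
      rw [← hinj (Rep.ext hrep hτ)]
      exact hσ
    have hcube : a ^ p ∈ Subgroup.closure {g | g ∈ r} := key (rep_pow ha p) (memB_iff.1 h3)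
    have hn : a ∈ Subgroup.normalizer ((Subgroup.closure {g | g ∈ r} : Subgroup G) : Set G) := by
      apply mem_normalizer_closure
      intro g hg
      obtain ⟨B, hB, hgB⟩ := forall₂_mem hF' g hg
      have h5 := memB_iff.1 (allL_spec h4 B hB)
      have h6 : a * (g * a ^ (p - 1)) ∈ Subgroup.closure {g | g ∈ r} :=
        key (rep_mul' ρ ha (rep_mul' ρ hgB (rep_pow ha (p - 1)))) h5
      have h7 : a * g * a⁻¹ = a * (g * a ^ (p - 1)) * (a ^ p)⁻¹ := by
        have : a ^ p = a ^ (p - 1) * a := by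
          rw [← pow_succ, Nat.sub_add_cancel hp]
        rw [this]
        group
      rw [h7]
      exact Subgroup.mul_mem _ h6 (Subgroup.inv_mem _ hcube)
    rw [closure_cons, eqL_eq h2]
    exact h0.step ha hp hn hcube

theorem key2_eq {τ : Equiv.Perm (Fin 728)} {D D' : ℕ} (h : Rep τ D) (h' : Rep τ D') :
    key2 D = key2 D' := by
  unfold key2
  rw [h.apply 0 (by norm_num), h.apply 1 (by norm_num), h'.apply 0 (by norm_num),
    h'.apply 1 (by norm_num)]

/-- the order of a listed subgroup -/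
theorem SubRep.card_eq [Finite G] (hinj : Function.Injective ρ) {H : Subgroup G} {L : List ℕ}
    (h : SubRep ρ H L) (hnd : nodupB (L.map key2) = true) : Nat.card H = L.length := by
  classical
  apply le_antisymm
  · have hex : ∀ σ : H, ∃ i : Fin L.length, Rep (ρ σ.1) (L.get i) := by
      intro σ
      obtain ⟨l, hl, hrep⟩ := h.fwd σ.1 σ.2
      obtain ⟨i, hi⟩ := List.mem_iff_get.1 hl
      exact ⟨i, by rw [hi]; exact hrep⟩
    choose f hf using hex
    have hfi : Function.Injective f := by
      intro σ σ' hσ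
      have h1 := hf σ
      have h2 := hf σ'
      rw [hσ] at h1
      exact Subtype.ext (hinj (Rep.ext h1 h2))
    have := Nat.card_le_card_of_injective f hfi
    rwa [Nat.card_fin] at this
  · have hex : ∀ i : Fin L.length, ∃ σ : H, Rep (ρ σ.1) (L.get i) := by
      intro i
      obtain ⟨σ, hσ, hrep⟩ := h.bwd (L.get i) (List.get_mem L i)
      exact ⟨⟨σ, hσ⟩, hrep⟩
    choose f hf using hex
    have hnd' : (L.map key2).Nodup := nodupB_spec hnd
    have hfi : Function.Injective f := by
      intro i j hij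
      have h1 := hf i
      have h2 := hf j
      rw [hij] at h1
      have h3 : key2 (L.get i) = key2 (L.get j) := key2_eq h1 h2
      have h4 := List.nodup_iff_injective_get.1 hnd'
      have hi' : i.val < (L.map key2).length := by rw [List.length_map]; exact i.isLt
      have hj' : j.val < (L.map key2).length := by rw [List.length_map]; exact j.isLt
      have h5 : (L.map key2).get ⟨i.val, hi'⟩ = (L.map key2).get ⟨j.val, hj'⟩ := by
        simp only [List.get_eq_getElem, List.getElem_map]
        simpa using h3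
      have h6 := h4 h5
      exact Fin.ext (by simpa using congrArg Fin.val h6)
    have := Nat.card_le_card_of_injective f hfi
    rwa [Nat.card_fin] at this

end Cfsg.Agent.Helper2.G23P
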