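import Mathlib
import Cfsg.Agent.Helper5.G23Gen
import Cfsg.Agent.Helper5.G23Cov
import Cfsg.Agent.Helper2.G23P.AbsC
import Cfsg.Agent.Helper2.G23P.Pc
import Cfsg.Agent.Helper2.G23P.ChkA
import Cfsg.Agent.Helper2.G23P.ChkB
import Cfsg.Agent.Helper2.G23P.ChkC
import Cfsg.Agent.Helper2.G23P.ChkD
import Cfsg.Agent.Helper2.G23P.ChkE
import Cfsg.Agent.Helper2.G23P.ChkF

/-!
# The fixed-point data of `G₂(3)` on 728 points, and its element orders
-/

set_option autoImplicit false

namespace Cfsg.Agent.Helper2.G23P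

open Cfsg.Agent.Helper5.G23 (GG rho rho_word g tabF card_GG chainG_ok chainG_prod levelGs
  actsOn_of_hom g_pow order_g0 mm)
open Cfsg.Agent.Helper5.LP (actL ActsOn chain_lower fixSub)
open Cfsg.Agent.Helper5.StemP (lval)

/-- the element of `G₂(3)` spelled by a word -/
noncomputable def wd (w : List ℕ) : GG := (w.map (lval g)).prod

theorem rep_wd (w : List ℕ) (hw : ∀ c ∈ w, c < 6) : Rep (rho (wd w)) (pw w) := by
  have hlt : ∀ j, j < 728 → actL tabF w j < 1024 := by
    intro j hj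
    have h := rho_word w hw ⟨j, hj⟩
    have h2 : actL tabF w j = (rho (wd w) ⟨j, hj⟩).val := h.symm
    rw [h2]
    exact lt_trans (Fin.isLt _) (by norm_num)
  intro v
  unfold pw
  rw [tb_pack _ hlt v.val v.isLt]
  exact rho_word w hw v

/-- the permutation representation on 728 points is faithful -/
theorem rho_injective : Function.Injective rho := by
  have hA : ActsOn (rho.comp (MonoidHom.id GG)) (fun l => (l.map (lval g)).prod) (2 * 3) tabF :=
    actsOn_of_hom (MonoidHom.id GG) _ (2 * 3) (by norm_num) (fun l _ => rfl)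
  rw [MonoidHom.comp_id] at hA
  have h1 := chain_lower hA levelGs [] chainG_ok
  rw [chainG_prod] at h1
  have h2 : Nat.card (rho.range ⊓ fixSub 728 [] : Subgroup (Equiv.Perm (Fin 728))) ≤
      Nat.card rho.range := Subgroup.card_le_of_le inf_le_left
  have h3 : Nat.card GG ≤ Nat.card rho.range := by rw [card_GG]; omega
  have hbij := Function.Surjective.bijective_of_nat_card_le rho.rangeRestrict_surjective h3
  intro a b hab
  apply hbij.1
  exact Subtype.ext hab

theorem forall₂_wd : ∀ (W : List (List ℕ)), (∀ w ∈ W, ∀ c ∈ w, c < 6) →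
    List.Forall₂ (fun g A => Rep (rho g) A) (W.map wd) (W.map pw)
  | [], _ => List.Forall₂.nil
  | w :: W, h => List.Forall₂.cons (rep_wd w (h w List.mem_cons_self))
      (forall₂_wd W (fun w' hw' => h w' (List.mem_cons_of_mem _ hw')))

/-- the Sylow 2-subgroup -/
noncomputable def S2 : Subgroup GG := Subgroup.closure {g | g ∈ W2.map wd}

/-- the Sylow 3-subgroup -/
noncomputable def S3 : Subgroup GG := Subgroup.closure {g | g ∈ W3.map wd}

theorem subRep2 : SubRep rho S2 L2 :=
  subRep_of_pcOK rho_injective (by norm_num) _ _ _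
    (by rw [← eqL_eq chk_A2]; exact forall₂_wd W2 chk_W2) chk_pc2

theorem subRep3 : SubRep rho S3 L3 :=
  subRep_of_pcOK rho_injective (by norm_num) _ _ _
    (by rw [← eqL_eq chk_A3]; exact forall₂_wd W3 chk_W3) chk_pc3

theorem card_S2 : Nat.card S2 = 64 := by
  rw [subRep2.card_eq rho_injective chk_key2, chk_len2]

theorem card_S3 : Nat.card S3 = 729 := by
  rw [subRep3.card_eq rho_injective chk_key3, chk_len3]

theorem isId_spec {σ : Equiv.Perm (Fin 728)} {l : ℕ} (h : Rep σ l) : isId l = true ↔ σ = 1 := by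
  constructor
  · intro hi
    apply Equiv.ext
    intro v
    apply Fin.ext
    rw [h v]
    exact (nbeq_iff _ _).1 (allB_spec hi v.val v.isLt)
  · intro h1
    apply allB_of
    intro v hv
    rw [nbeq_iff, h.apply v hv, h1]
    rfl

theorem eq_one_of_isId {a : GG} {l : ℕ} (h : Rep (rho a) l) (hi : isId l = true) : a = 1 :=
  rho_injective (by rw [(isId_spec h).1 hi, map_one])

theorem inv2_GG (a : GG) (ha : a ∈ S2) (ha1 : a ≠ 1) (haa : a * a = 1) : fx (rho a) = 8 := by
  obtain ⟨l, hl, hrep⟩ := subRep2.fwd a ha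
  have h := allL_spec chk_inv2 l hl
  unfold inv2OK at h
  simp only [Bool.or_eq_true, Bool.not_eq_true'] at h
  rcases h with (h | h) | h
  · exact absurd (eq_one_of_isId hrep h) ha1
  · exfalso
    have h2 : allB (fun v => Nat.beq (tb l (tb l v)) v) 728 = true := by
      apply allB_of
      intro v hv
      rw [nbeq_iff, hrep.apply v hv, ← hrep (rho a ⟨v, hv⟩), ← Equiv.Perm.mul_apply, ← map_mul,
        haa, map_one, Equiv.Perm.one_apply]
    rw [h2] at h
    exact absurd h (by simp)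
  · rw [hrep.fx_eq]
    exact (nbeq_iff _ _).1 h

theorem fix3_GG (a : GG) (ha : a ∈ S3) (ha1 : a ≠ 1) :
    fx (rho a) = 2 ∨ fx (rho a) = 8 ∨ fx (rho a) = 26 ∨ fx (rho a) = 80 := by
  obtain ⟨l, hl, hrep⟩ := subRep3.fwd a ha
  have h := allL_spec chk_el3 l hl
  unfold el3OK at h
  rw [Bool.or_eq_true] at h
  rcases h with h | h
  · exact absurd (eq_one_of_isId hrep h) ha1
  · rw [hrep.fx_eq]
    have := memB_iff.1 h
    simpa using this

theorem mem_LTF {a : GG} (ha : a ∈ S3) (hfx : fx (rho a) = 26) :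
    ∃ t ∈ LTF, Rep (rho a) t.1 := by
  obtain ⟨l, hl, hrep⟩ := subRep3.fwd a ha
  have h := allL_spec chk_LT l hl
  unfold inLT isT at h
  have e : Nat.beq (fixc l) 26 = true := (nbeq_iff _ _).2 (by rw [← hrep.fx_eq]; exact hfx)
  rw [e] at h
  simp only [Bool.not_true, Bool.false_or] at h
  obtain ⟨t, ht, rfl⟩ := List.mem_map.1 (memB_iff.1 h)
  exact ⟨t, ht, hrep⟩

theorem cube3_GG (a : GG) (ha : a ∈ S3) (hfx : fx (rho a) = 26) : a ^ 3 = 1 := by
  obtain ⟨t, ht, hrep⟩ := mem_LTF ha hfx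
  have h := allL_spec chk_cub t ht
  apply rho_injective
  rw [map_one, map_pow]
  apply Equiv.ext
  intro v
  apply Fin.ext
  have h1 := (nbeq_iff _ _).1 (allB_spec h v.val v.isLt)
  rw [pow_succ, pow_two, Equiv.Perm.mul_apply, Equiv.Perm.mul_apply, hrep, hrep, hrep,
    Equiv.Perm.one_apply]
  exact h1

theorem key2_mulP (A B : ℕ) : key2 (mulP A B) = keyMul A B := by
  unfold key2 keyMul
  rw [tb_mulP _ _ 0 (by norm_num), tb_mulP _ _ 1 (by norm_num)]

theorem key2_mulP2 {τ : Equiv.Perm (Fin 728)} {B : ℕ} (hB : Rep τ B) (A : ℕ) :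
    key2 (mulP (mulP A B) B) = keyMul2 A B := by
  unfold key2 keyMul2
  rw [tb_mulP _ _ 0 (by norm_num), tb_mulP _ _ 1 (by norm_num),
    tb_mulP _ _ _ (hB.lt 0 (by norm_num)), tb_mulP _ _ _ (hB.lt 1 (by norm_num))]

/-- the elements of the Sylow 3-subgroup are determined by their keys -/
theorem key_inj {a b : GG} (ha : a ∈ S3) (hb : b ∈ S3) {la lb : ℕ} (hra : Rep (rho a) la)
    (hrb : Rep (rho b) lb) (hk : key2 la = key2 lb) : a = b := by
  obtain ⟨la', hla', hra'⟩ := subRep3.fwd a ha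
  obtain ⟨lb', hlb', hrb'⟩ := subRep3.fwd b hb
  have h1 : key2 la' = key2 lb' := by rw [key2_eq hra' hra, hk, key2_eq hrb hrb']
  have hnd := nodupB_spec chk_key3
  have h2 : la' = lb' := List.inj_on_of_nodup_map hnd hla' hlb' h1
  rw [h2] at hra'
  exact rho_injective (Rep.ext hra' hrb')

theorem pair3_GG (a : GG) (ha : a ∈ S3) (b : GG) (hb : b ∈ S3) (hfa : fx (rho a) = 26)
    (hfb : fx (rho b) = 26) (hsame : ∀ v, rho a v = v ↔ rho b v = v) :
    b = a ∨ b = a * a ∨ fx (rho (a * b)) ≠ 26 ∨ fx (rho (a * b * b)) ≠ 26 := by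
  obtain ⟨s, hs, hrs⟩ := mem_LTF ha hfa
  obtain ⟨t, ht, hrt⟩ := mem_LTF hb hfb
  have hfs : s.2 = fixL s.1 := eqL_eq (allL_spec chk_fixL s hs)
  have hft : t.2 = fixL t.1 := eqL_eq (allL_spec chk_fixL t ht)
  have hfix : fixL t.1 = fixL s.1 := by
    unfold fixL
    apply fixLAux_congr
    intro v hv
    rw [hrt.apply v hv, hrs.apply v hv]
    have h1 := hsame ⟨v, hv⟩
    constructor
    · intro h
      exact congrArg Fin.val (h1.2 (Fin.ext h))
    · intro h
      exact congrArg Fin.val (h1.1 (Fin.ext h))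
  have h := allL_spec (allL_spec chk_pair s hs) t ht
  have he : eqL t.2 s.2 = true := by rw [hft, hfs, hfix]; exact eqL_refl _
  rw [he] at h
  simp only [Bool.not_true, Bool.false_or, Bool.or_eq_true, Bool.not_eq_true'] at h
  rcases h with ((h | h) | h) | h
  · left
    have e := (nbeq_iff _ _).1 h
    rw [e] at hrt
    exact rho_injective (Rep.ext hrt hrs)
  · right; left
    apply key_inj hb (S3.mul_mem ha ha) hrt (rep_mul' rho hrs hrs)
    rw [(nbeq_iff _ _).1 h, key2_mulP]
  · right; right; left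
    intro hfab
    obtain ⟨u, hu, hru⟩ := mem_LTF (S3.mul_mem ha hb) hfab
    have hk : key2 u.1 ∈ KT := by
      rw [← eqL_eq chk_KT]
      exact List.mem_map.2 ⟨u, hu, rfl⟩
    have e : key2 u.1 = keyMul s.1 t.1 := by
      rw [key2_eq hru (rep_mul' rho hrs hrt), key2_mulP]
    rw [e] at hk
    have := memB_iff.2 hk
    rw [h] at this
    exact absurd this (by simp)
  · right; right; right
    intro hfab
    obtain ⟨u, hu, hru⟩ := mem_LTF (S3.mul_mem (S3.mul_mem ha hb) hb) hfab
    have hk : key2 u.1 ∈ KT := by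
      rw [← eqL_eq chk_KT]
      exact List.mem_map.2 ⟨u, hu, rfl⟩
    have e : key2 u.1 = keyMul2 s.1 t.1 := by
      rw [key2_eq hru (rep_mul' rho (rep_mul' rho hrs hrt) hrt), key2_mulP2 hrt]
    rw [e] at hk
    have := memB_iff.2 hk
    rw [h] at this
    exact absurd this (by simp)

/-! ### the elements of orders 7, 13 and 6 -/

theorem rep_AX : Rep (rho (wd [0])) aX ∧ Rep (rho (wd [4])) aY ∧ Rep (rho (wd wN)) aN ∧
    Rep (rho (wd wM)) aM ∧ Rep (rho (wd w6)) a6 := by
  have h := eqL_eq chk_AX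
  unfold WX AX at h
  simp only [List.map_cons, List.map_nil, List.cons.injEq, and_true] at h
  obtain ⟨h1, h2, h3, h4, h5⟩ := h
  have hW := chk_WX
  unfold WX at hW
  refine ⟨?_, ?_, ?_, ?_, ?_⟩
  · rw [← h1]; exact rep_wd _ (hW _ (by simp))
  · rw [← h2]; exact rep_wd _ (hW _ (by simp))
  · rw [← h3]; exact rep_wd _ (hW _ (by simp))
  · rw [← h4]; exact rep_wd _ (hW _ (by simp))
  · rw [← h5]; exact rep_wd _ (hW _ (by simp))

theorem fpf_of_fpfB {σ : Equiv.Perm (Fin 728)} {l : ℕ} (h : Rep σ l) (hf : fpfB l = true) :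
    ∀ v, σ v ≠ v := by
  intro v hv
  have h1 := allB_spec hf v.val v.isLt
  have h2 : Nat.beq (tb l v.val) v.val = true := (nbeq_iff _ _).2 (by rw [← h v, hv])
  rw [h2] at h1
  exact absurd h1 (by simp)

theorem conj_of_conj3B {n y : GG} {ln ly : ℕ} (hn : Rep (rho n) ln) (hy : Rep (rho y) ly)
    (h : conj3B ln ly = true) : n * y * n⁻¹ = y ^ 3 := by
  have h1 : mulP ln ly = mulP ly (mulP ly (mulP ly ln)) := (nbeq_iff _ _).1 h
  have h2 : Rep (rho (n * y)) (mulP ln ly) := rep_mul' rho hn hy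
  have h3 : Rep (rho (y * (y * (y * n)))) (mulP ly (mulP ly (mulP ly ln))) :=
    rep_mul' rho hy (rep_mul' rho hy (rep_mul' rho hy hn))
  rw [h1] at h2
  have h4 : n * y = y * (y * (y * n)) := rho_injective (Rep.ext h2 h3)
  rw [h4, pow_succ, pow_two]
  simp only [mul_assoc, mul_inv_cancel, mul_one]

theorem wd_zero : wd [0] = g 0 := by
  simp [wd, lval]

theorem wd_four : wd [4] = g 2 := by
  simp [wd, lval]

theorem orderOf_y : orderOf (wd [4]) = 13 := by
  have h1 : wd [4] ^ 13 = 1 := by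
    rw [wd_four]
    exact g_pow 2 (by norm_num)
  have h2 : wd [4] ≠ 1 := ne_one_of_fpf rho (fpf_of_fpfB rep_AX.2.1 chk_fpfY)
  have h3 := orderOf_dvd_of_pow_eq_one h1
  rcases (Nat.dvd_prime (by norm_num : Nat.Prime 13)).1 h3 with h | h
  · exact absurd (orderOf_eq_one_iff.1 h) h2
  · exact h

/-- the fixed-point data of `G₂(3)` -/
noncomputable def hypGG : Hyp rho where
  card := card_GG
  S2 := S2
  card2 := card_S2
  inv2 := inv2_GG
  S3 := S3
  card3 := card_S3
  fix3 := fix3_GG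
  cube3 := cube3_GG
  pair3 := pair3_GG
  x := wd [0]
  m := wd wM
  ordx := by rw [wd_zero]; exact order_g0
  fpfx := fpf_of_fpfB rep_AX.1 chk_fpfX
  conjx := conj_of_conj3B rep_AX.2.2.2.1 rep_AX.1 chk_conjM
  y := wd [4]
  z := wd wN
  ordy := orderOf_y
  fpfy := fpf_of_fpfB rep_AX.2.1 chk_fpfY
  conjy := conj_of_conj3B rep_AX.2.2.1 rep_AX.2.1 chk_conjN

/-- an element of order 6 -/
theorem exists_orderOf_six : ∃ u : GG, orderOf u = 6 := by
  refine ⟨wd w6, ?_⟩
  have hrep := rep_AX.2.2.2.2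
  have h := chk_ord6
  unfold ord6B at h
  simp only [Bool.and_eq_true, Bool.not_eq_true'] at h
  obtain ⟨⟨h6, h2⟩, h3⟩ := h
  have e6 : wd w6 ^ 6 = 1 := eq_one_of_isId (rep_pow hrep 6) h6
  have e2 : wd w6 * wd w6 ≠ 1 := by
    intro e
    have := (isId_spec (rep_mul' rho hrep hrep)).2 (by rw [e, map_one])
    rw [h2] at this
    exact absurd this (by simp)
  have e3 : wd w6 * (wd w6 * wd w6) ≠ 1 := by
    intro e
    have := (isId_spec (rep_mul' rho hrep (rep_mul' rho hrep hrep))).2 (by rw [e, map_one])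
    rw [h3] at this
    exact absurd this (by simp)
  have hd := orderOf_dvd_of_pow_eq_one e6
  have hle : orderOf (wd w6) ≤ 6 := Nat.le_of_dvd (by norm_num) hd
  have hpos : 0 < orderOf (wd w6) := orderOf_pos _
  have hpow := pow_orderOf_eq_one (wd w6)
  interval_cases ho : orderOf (wd w6)
  · exfalso; apply e2; rw [← pow_two, ← pow_one (wd w6)] ; rw [pow_one] at hpow; rw [hpow]; simp
  · exfalso; apply e2; rw [← pow_two]; exact hpow
  · exfalso; apply e3; rw [← pow_two, ← pow_succ']; exact hpow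
  · exfalso; revert hd; decide
  · exfalso; revert hd; decide
  · rfl

/-- **The prime graph of `G₂(3)`**: the prime divisors of the order are `2, 3, 7, 13`, and the
only product of two distinct primes which is the order of an element is `6`. -/
theorem main_GG : (∀ r : ℕ, r.Prime → (r ∣ Nat.card GG ↔ r = 2 ∨ r = 3 ∨ r = 7 ∨ r = 13)) ∧
    (∀ r s : ℕ, r.Prime → s.Prime → r ≠ s →
      ((∃ x : GG, orderOf x = r * s) ↔ (r = 2 ∧ s = 3) ∨ (r = 3 ∧ s = 2))) := by
  have hdiv : ∀ r : ℕ, r.Prime → (r ∣ Nat.card GG ↔ r = 2 ∨ r = 3 ∨ r = 7 ∨ r = 13) := by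
    intro r hr
    rw [card_GG]
    constructor
    · intro h
      have e : (4245696 : ℕ) = 2 ^ 6 * 3 ^ 6 * 7 * 13 := by norm_num
      rw [e] at h
      rcases (hr.dvd_mul).1 h with h | h
      · rcases (hr.dvd_mul).1 h with h | h
        · rcases (hr.dvd_mul).1 h with h | h
          · left
            exact (Nat.prime_dvd_prime_iff_eq hr Nat.prime_two).1 (hr.dvd_of_dvd_pow h)
          · right; left
            exact (Nat.prime_dvd_prime_iff_eq hr Nat.prime_three).1 (hr.dvd_of_dvd_pow h)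
        · right; right; left
          exact (Nat.prime_dvd_prime_iff_eq hr (by norm_num)).1 h
      · right; right; right
        exact (Nat.prime_dvd_prime_iff_eq hr (by norm_num)).1 h
    · rintro (rfl | rfl | rfl | rfl) <;> decide
  refine ⟨hdiv, ?_⟩
  intro r s hr hs hrs
  constructor
  · rintro ⟨x, hx⟩
    have hdx : orderOf x ∣ Nat.card GG := orderOf_dvd_natCard x
    have h1 := (hdiv r hr).1 ((Dvd.intro _ hx.symm).trans hdx)
    have h2 := (hdiv s hs).1 ((Dvd.intro_left _ hx.symm).trans hdx)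
    obtain ⟨n14, n21, n26, n39, n91⟩ := hypGG.orderOf_ne x
    rcases h1 with rfl | rfl | rfl | rfl <;> rcases h2 with rfl | rfl | rfl | rfl <;>
      first
        | exact absurd rfl hrs
        | exact Or.inl ⟨rfl, rfl⟩
        | exact Or.inr ⟨rfl, rfl⟩
        | exact absurd hx n14
        | exact absurd hx n21
        | exact absurd hx n26
        | exact absurd hx n39
        | exact absurd hx n91
  · rintro (⟨rfl, rfl⟩ | ⟨rfl, rfl⟩)
    · exact exists_orderOf_six
    · exact exists_orderOf_six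

end Cfsg.Agent.Helper2.G23P
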