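import Mathlib
import Cfsg.Agent.Helper5.SpecPSL

/-!
# The prime graph of `PSL₂(13)`
-/

set_option autoImplicit false

namespace Cfsg.Agent.Helper2.G23P

open Matrix

variable {E : Type*} [Field E] [Fintype E]

/-- the orders of the elements of `PSL₂(13)` are the divisors of `13`, `6` and `7` -/
theorem psl13_range (hE : Fintype.card E = 13) :
    Set.range (orderOf : ProjectiveSpecialLinearGroup (Fin 2) E → ℕ) =
      {k | k ∣ 13 ∨ k ∣ 6 ∨ k ∣ 7} := by
  have : Fact (Nat.Prime 13) := ⟨by norm_num⟩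
  have : CharP E 13 := charP_of_card_eq_prime hE
  have h2 : (2 : E) ≠ 0 := by
    intro h
    have h3 : ((2 : ℕ) : E) = 0 := by exact_mod_cast h
    have := (CharP.cast_eq_zero_iff E 13 2).1 h3
    omega
  rw [Cfsg.Agent.Helper5.SpecPSL.range_orderOf 13, Cfsg.Agent.Helper5.SpecPSL.dd_of_two_ne h2, hE]

theorem prime_dvd_six {r : ℕ} (hr : r.Prime) : r ∣ 6 ↔ r = 2 ∨ r = 3 := by
  constructor
  · intro h
    have e : (6 : ℕ) = 2 * 3 := by norm_num
    rw [e] at h
    rcases (hr.dvd_mul).1 h with h | h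
    · exact Or.inl ((Nat.prime_dvd_prime_iff_eq hr Nat.prime_two).1 h)
    · exact Or.inr ((Nat.prime_dvd_prime_iff_eq hr Nat.prime_three).1 h)
  · rintro (rfl | rfl) <;> decide

/-- the prime divisors of the order of `PSL₂(13)` -/
theorem psl13_prime_dvd (hE : Fintype.card E = 13) (r : ℕ) (hr : r.Prime) :
    r ∣ Nat.card (ProjectiveSpecialLinearGroup (Fin 2) E) ↔ r = 2 ∨ r = 3 ∨ r = 7 ∨ r = 13 := by
  have hrange := psl13_range hE
  have hiff : r ∣ Nat.card (ProjectiveSpecialLinearGroup (Fin 2) E) ↔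
      r ∈ Set.range (orderOf : ProjectiveSpecialLinearGroup (Fin 2) E → ℕ) := by
    constructor
    · intro h
      have : Fact r.Prime := ⟨hr⟩
      obtain ⟨x, hx⟩ := exists_prime_orderOf_dvd_card' r h
      exact ⟨x, hx⟩
    · rintro ⟨x, rfl⟩
      exact orderOf_dvd_natCard x
  rw [hiff, hrange, Set.mem_ofPred_eq, Nat.prime_dvd_prime_iff_eq hr (by norm_num : Nat.Prime 13),
    Nat.prime_dvd_prime_iff_eq hr (by norm_num : Nat.Prime 7), prime_dvd_six hr]
  tauto

/-- the products of two distinct primes which are orders of elements of `PSL₂(13)` -/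
theorem psl13_pair (hE : Fintype.card E = 13) (r s : ℕ) (hr : r.Prime) (hs : s.Prime)
    (hrs : r ≠ s) :
    (∃ y : ProjectiveSpecialLinearGroup (Fin 2) E, orderOf y = r * s) ↔
      (r = 2 ∧ s = 3) ∨ (r = 3 ∧ s = 2) := by
  have hrange := psl13_range hE
  have hiff : (∃ y : ProjectiveSpecialLinearGroup (Fin 2) E, orderOf y = r * s) ↔
      r * s ∈ Set.range (orderOf : ProjectiveSpecialLinearGroup (Fin 2) E → ℕ) := Iff.rfl
  rw [hiff, hrange, Set.mem_ofPred_eq]
  constructor
  · rintro (h | h | h)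
    · exfalso
      have h1 := (Nat.prime_dvd_prime_iff_eq hr (by norm_num : Nat.Prime 13)).1
        ((dvd_mul_right r s).trans h)
      have h2 := (Nat.prime_dvd_prime_iff_eq hs (by norm_num : Nat.Prime 13)).1
        ((dvd_mul_left s r).trans h)
      exact hrs (h1.trans h2.symm)
    · have h1 := (prime_dvd_six hr).1 ((dvd_mul_right r s).trans h)
      have h2 := (prime_dvd_six hs).1 ((dvd_mul_left s r).trans h)
      rcases h1 with rfl | rfl <;> rcases h2 with rfl | rfl
      · exact absurd rfl hrs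
      · exact Or.inl ⟨rfl, rfl⟩
      · exact Or.inr ⟨rfl, rfl⟩
      · exact absurd rfl hrs
    · exfalso
      have h1 := (Nat.prime_dvd_prime_iff_eq hr (by norm_num : Nat.Prime 7)).1
        ((dvd_mul_right r s).trans h)
      have h2 := (Nat.prime_dvd_prime_iff_eq hs (by norm_num : Nat.Prime 7)).1
        ((dvd_mul_left s r).trans h)
      exact hrs (h1.trans h2.symm)
  · rintro (⟨rfl, rfl⟩ | ⟨rfl, rfl⟩)
    · right; left; norm_num
    · right; left; norm_num

end Cfsg.Agent.Helper2.G23P
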